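import Cfsg.Agent.Lib.helper15.SUn.Iso

set_option autoImplicit false

namespace Cfsg.Agent.Lib.helper15.SUn

open Matrix

variable {F : Type*} [Field F] {n : ℕ} {q : ℕ} {σ : F ≃+* F}
variable {m : ℕ} {E Fv : ℕ → Fin n → F} {d : Fin n → F}

theorem Sg_frame_E (hσ : ∀ x, σ x = x ^ q) (fr : Frame q m E Fv d) {k j : ℕ} (hk : k + 1 < m)
    (hj : j < m) (s : F) :
    Sg σ (E k) (Fv (k + 1)) s *ᵥ E j = E j + (if j = k + 1 then s else 0) • E k := by
  rw [Sg_mulVec hσ, fr.ef j (k + 1) hj hk, fr.ee j k hj (by omega)]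
  split_ifs <;> simp

theorem Sg_frame_F (hσ : ∀ x, σ x = x ^ q) (fr : Frame q m E Fv d) {k j : ℕ} (hk : k + 1 < m)
    (hj : j < m) (s : F) :
    Sg σ (E k) (Fv (k + 1)) s *ᵥ Fv j = Fv j - (if j = k then σ s else 0) • Fv (k + 1) := by
  rw [Sg_mulVec hσ, fr.ff j (k + 1) hj hk, fr.fe j k hj (by omega)]
  split_ifs <;> simp

theorem Sg_frame_d (hσ : ∀ x, σ x = x ^ q) (fr : Frame q m E Fv d) {k : ℕ} (hk : k + 1 < m)
    (s : F) : Sg σ (E k) (Fv (k + 1)) s *ᵥ d = d := by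
  rw [Sg_mulVec hσ, fr.df (k + 1) hk, fr.de k (by omega)]
  simp

theorem Xp_succ_mulVec (E Fv : ℕ → Fin n → F) (al : ℕ → F) (k : ℕ) (x : Fin n → F) :
    Xp σ E Fv al (k + 1) *ᵥ x = Xp σ E Fv al k *ᵥ (Sg σ (E k) (Fv (k + 1)) (al k) *ᵥ x) := by
  rw [Xp_succ, Matrix.mulVec_mulVec]

theorem Xp_iso (hσ : ∀ x, σ x = x ^ q) (hf : Cfsg.Geo.IsUnitaryForm σ (Cfsg.hermForm n F q))
    (fr : Frame q m E Fv d) (al : ℕ → F) (k : ℕ) (hk : k + 1 ≤ m) (x y : Fin n → F) :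
    Cfsg.hermForm n F q (Xp σ E Fv al k *ᵥ x) (Xp σ E Fv al k *ᵥ y) = Cfsg.hermForm n F q x y := by
  induction k generalizing x y with
  | zero => rw [Xp_zero, Matrix.one_mulVec, Matrix.one_mulVec]
  | succ k ih =>
    rw [Xp_succ_mulVec, Xp_succ_mulVec, ih (by omega)]
    exact Sg_iso hσ hf (fr.ee k k (by omega) (by omega)) (fr.ff _ _ (by omega) (by omega))
      (by rw [fr.ef k (k + 1) (by omega) (by omega), if_neg (by omega)]) _ _ _

theorem Xp_det (hσ : ∀ x, σ x = x ^ q) (hf : Cfsg.Geo.IsUnitaryForm σ (Cfsg.hermForm n F q))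
    (fr : Frame q m E Fv d) (al : ℕ → F) (k : ℕ) (hk : k + 1 ≤ m) :
    (Xp σ E Fv al k).det = 1 := by
  induction k with
  | zero => rw [Xp_zero, Matrix.det_one]
  | succ k ih =>
    rw [Xp_succ, Matrix.det_mul, ih (by omega), one_mul]
    exact Sg_det hσ hf (fr.ee k k (by omega) (by omega)) (fr.ff _ _ (by omega) (by omega))
      (by rw [fr.ef k (k + 1) (by omega) (by omega), if_neg (by omega)]) _

theorem Xp_e_big (hσ : ∀ x, σ x = x ^ q) (hf : Cfsg.Geo.IsUnitaryForm σ (Cfsg.hermForm n F q))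
    (fr : Frame q m E Fv d) (al : ℕ → F) (k : ℕ) (hk : k + 1 ≤ m) (j : ℕ) (hj : k < j) (hjm : j < m) :
    Xp σ E Fv al k *ᵥ E j = E j := by
  induction k with
  | zero => rw [Xp_zero, Matrix.one_mulVec]
  | succ k ih =>
    rw [Xp_succ_mulVec, Sg_frame_E hσ fr (by omega) hjm, if_neg (by omega), zero_smul, add_zero,
      ih (by omega) (by omega)]

theorem Xp_e_zero (hσ : ∀ x, σ x = x ^ q) (hf : Cfsg.Geo.IsUnitaryForm σ (Cfsg.hermForm n F q))
    (fr : Frame q m E Fv d) (al : ℕ → F) (k : ℕ) (hk : k + 1 ≤ m) :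
    Xp σ E Fv al k *ᵥ E 0 = E 0 := by
  induction k with
  | zero => rw [Xp_zero, Matrix.one_mulVec]
  | succ k ih =>
    rw [Xp_succ_mulVec, Sg_frame_E hσ fr (by omega) (by omega), if_neg (by omega), zero_smul,
      add_zero, ih (by omega)]

theorem Xp_e_succ (hσ : ∀ x, σ x = x ^ q) (hf : Cfsg.Geo.IsUnitaryForm σ (Cfsg.hermForm n F q))
    (fr : Frame q m E Fv d) (al : ℕ → F) (k : ℕ) (hk : k + 1 ≤ m) (j : ℕ) (hj : j + 1 ≤ k) :
    Xp σ E Fv al k *ᵥ E (j + 1) = E (j + 1) + al j • (Xp σ E Fv al k *ᵥ E j) := by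
  induction k with
  | zero => omega
  | succ k ih =>
    rw [Xp_succ_mulVec, Xp_succ_mulVec, Sg_frame_E hσ fr (by omega) (by omega),
      Sg_frame_E hσ fr (k := k) (j := j) (by omega) (by omega),
      if_neg (show ¬ j = k + 1 by omega), zero_smul, add_zero]
    by_cases hjk : j = k
    · subst hjk
      rw [if_pos rfl, Matrix.mulVec_add, Matrix.mulVec_smul,
        Xp_e_big hσ hf fr al j (by omega) (j + 1) (by omega) (by omega)]
    · rw [if_neg (show ¬ j + 1 = k + 1 by omega), zero_smul, add_zero, ih (by omega) (by omega)]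

theorem Xp_d (hσ : ∀ x, σ x = x ^ q) (hf : Cfsg.Geo.IsUnitaryForm σ (Cfsg.hermForm n F q))
    (fr : Frame q m E Fv d) (al : ℕ → F) (k : ℕ) (hk : k + 1 ≤ m) :
    Xp σ E Fv al k *ᵥ d = d := by
  induction k with
  | zero => rw [Xp_zero, Matrix.one_mulVec]
  | succ k ih => rw [Xp_succ_mulVec, Sg_frame_d hσ fr (by omega), ih (by omega)]

theorem Xp_f_big (hσ : ∀ x, σ x = x ^ q) (hf : Cfsg.Geo.IsUnitaryForm σ (Cfsg.hermForm n F q))
    (fr : Frame q m E Fv d) (al : ℕ → F) (k : ℕ) (hk : k + 1 ≤ m) (j : ℕ) (hj : k ≤ j) (hjm : j < m) :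
    Xp σ E Fv al k *ᵥ Fv j = Fv j := by
  induction k with
  | zero => rw [Xp_zero, Matrix.one_mulVec]
  | succ k ih =>
    rw [Xp_succ_mulVec, Sg_frame_F hσ fr (by omega) hjm, if_neg (by omega), zero_smul, sub_zero,
      ih (by omega) (by omega)]

theorem Xp_f (hσ : ∀ x, σ x = x ^ q) (hf : Cfsg.Geo.IsUnitaryForm σ (Cfsg.hermForm n F q))
    (fr : Frame q m E Fv d) (al : ℕ → F) (k : ℕ) (hk : k + 1 ≤ m) (j : ℕ) (hj : j + 1 ≤ k) :
    Xp σ E Fv al k *ᵥ Fv j = Fv j - σ (al j) • Fv (j + 1) := by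
  induction k with
  | zero => omega
  | succ k ih =>
    rw [Xp_succ_mulVec, Sg_frame_F hσ fr (by omega) (by omega)]
    by_cases hjk : j = k
    · subst hjk
      rw [if_pos rfl, Matrix.mulVec_sub, Matrix.mulVec_smul,
        Xp_f_big hσ hf fr al j (by omega) j le_rfl (by omega),
        Xp_f_big hσ hf fr al j (by omega) (j + 1) (by omega) (by omega)]
    · rw [if_neg hjk, zero_smul, sub_zero, ih (by omega) (by omega)]

theorem Eh_frame_E (hσ : ∀ x, σ x = x ^ q) (fr : Frame q m E Fv d) (hm : 1 ≤ m) {j : ℕ}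
    (hj : j < m) (a c : F) : Eh σ (E (m - 1)) (σ a • d) c *ᵥ E j = E j := by
  rw [Eh_mulVec hσ, herm_smul_right hσ, fr.ed j hj, fr.ee j (m - 1) hj (by omega)]
  simp

theorem Eh_frame_d (hσ : ∀ x, σ x = x ^ q) (hf : Cfsg.Geo.IsUnitaryForm σ (Cfsg.hermForm n F q))
    (fr : Frame q m E Fv d) (hm : 1 ≤ m) (a c : F) :
    Eh σ (E (m - 1)) (σ a • d) c *ᵥ d = d + a • E (m - 1) := by
  rw [Eh_mulVec hσ, herm_smul_right hσ, fr.dd, fr.de (m - 1) (by omega), hf.involutive]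
  simp

theorem Eh_frame_F (hσ : ∀ x, σ x = x ^ q) (fr : Frame q m E Fv d) (hm : 1 ≤ m) {j : ℕ}
    (hj : j < m) (a c : F) :
    Eh σ (E (m - 1)) (σ a • d) c *ᵥ Fv j =
      if j = m - 1 then Fv j - σ a • d + c • E (m - 1) else Fv j := by
  rw [Eh_mulVec hσ, herm_smul_right hσ, fr.fd j hj, fr.fe j (m - 1) hj (by omega)]
  split_ifs <;> simp

theorem uM_mulVec (m : ℕ) (E Fv : ℕ → Fin n → F) (d : Fin n → F) (al : ℕ → F) (a c : F)
    (x : Fin n → F) :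
    uM σ m E Fv d al a c *ᵥ x =
      Xp σ E Fv al (m - 1) *ᵥ (Eh σ (E (m - 1)) (σ a • d) c *ᵥ x) := by
  unfold uM
  rw [Matrix.mulVec_mulVec]

theorem uM_iso (hσ : ∀ x, σ x = x ^ q) (hf : Cfsg.Geo.IsUnitaryForm σ (Cfsg.hermForm n F q))
    (fr : Frame q m E Fv d) (hm : 1 ≤ m) (al : ℕ → F) {a c : F} (hc : c + σ c + a * σ a = 0)
    (x y : Fin n → F) :
    Cfsg.hermForm n F q (uM σ m E Fv d al a c *ᵥ x) (uM σ m E Fv d al a c *ᵥ y) =
      Cfsg.hermForm n F q x y := by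
  rw [uM_mulVec, uM_mulVec, Xp_iso hσ hf fr al (m - 1) (by omega)]
  apply Eh_iso hσ hf (fr.ee _ _ (by omega) (by omega))
  · rw [herm_smul_left, fr.de _ (by omega), mul_zero]
  · rw [herm_smul_left, herm_smul_right hσ, fr.dd, hf.involutive]
    linear_combination hc

theorem uM_det (hσ : ∀ x, σ x = x ^ q) (hf : Cfsg.Geo.IsUnitaryForm σ (Cfsg.hermForm n F q))
    (fr : Frame q m E Fv d) (hm : 1 ≤ m) (al : ℕ → F) (a c : F) :
    (uM σ m E Fv d al a c).det = 1 := by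
  unfold uM
  rw [Matrix.det_mul, Xp_det hσ hf fr al (m - 1) (by omega), one_mul]
  apply Eh_det hσ hf (fr.ee _ _ (by omega) (by omega))
  rw [herm_smul_left, fr.de _ (by omega), mul_zero]

theorem uM_e (hσ : ∀ x, σ x = x ^ q) (fr : Frame q m E Fv d) (hm : 1 ≤ m) (al : ℕ → F)
    (a c : F) {j : ℕ} (hj : j < m) :
    uM σ m E Fv d al a c *ᵥ E j = Xp σ E Fv al (m - 1) *ᵥ E j := by
  rw [uM_mulVec, Eh_frame_E hσ fr hm hj]

theorem uM_e_zero (hσ : ∀ x, σ x = x ^ q) (hf : Cfsg.Geo.IsUnitaryForm σ (Cfsg.hermForm n F q))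
    (fr : Frame q m E Fv d) (hm : 1 ≤ m) (al : ℕ → F) (a c : F) :
    uM σ m E Fv d al a c *ᵥ E 0 = E 0 := by
  rw [uM_e hσ fr hm al a c (by omega), Xp_e_zero hσ hf fr al (m - 1) (by omega)]

theorem uM_e_succ (hσ : ∀ x, σ x = x ^ q) (hf : Cfsg.Geo.IsUnitaryForm σ (Cfsg.hermForm n F q))
    (fr : Frame q m E Fv d) (hm : 1 ≤ m) (al : ℕ → F) (a c : F) (j : ℕ) (hj : j + 1 < m) :
    uM σ m E Fv d al a c *ᵥ E (j + 1) = E (j + 1) + al j • (uM σ m E Fv d al a c *ᵥ E j) := by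
  rw [uM_e hσ fr hm al a c hj, uM_e hσ fr hm al a c (by omega),
    Xp_e_succ hσ hf fr al (m - 1) (by omega) j (by omega)]

theorem uM_d (hσ : ∀ x, σ x = x ^ q) (hf : Cfsg.Geo.IsUnitaryForm σ (Cfsg.hermForm n F q))
    (fr : Frame q m E Fv d) (hm : 1 ≤ m) (al : ℕ → F) (a c : F) :
    uM σ m E Fv d al a c *ᵥ d = d + a • (uM σ m E Fv d al a c *ᵥ E (m - 1)) := by
  rw [uM_e hσ fr hm al a c (by omega), uM_mulVec, Eh_frame_d hσ hf fr hm, Matrix.mulVec_add,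
    Matrix.mulVec_smul, Xp_d hσ hf fr al (m - 1) (by omega)]

theorem uM_f_last (hσ : ∀ x, σ x = x ^ q) (hf : Cfsg.Geo.IsUnitaryForm σ (Cfsg.hermForm n F q))
    (fr : Frame q m E Fv d) (hm : 1 ≤ m) (al : ℕ → F) (a c : F) :
    uM σ m E Fv d al a c *ᵥ Fv (m - 1) =
      Fv (m - 1) - σ a • d + c • (uM σ m E Fv d al a c *ᵥ E (m - 1)) := by
  rw [uM_e hσ fr hm al a c (by omega), uM_mulVec, Eh_frame_F hσ fr hm (by omega), if_pos rfl,
    Matrix.mulVec_add, Matrix.mulVec_sub, Matrix.mulVec_smul, Matrix.mulVec_smul,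
    Xp_d hσ hf fr al (m - 1) (by omega),
    Xp_f_big hσ hf fr al (m - 1) (by omega) (m - 1) le_rfl (by omega)]

theorem uM_f (hσ : ∀ x, σ x = x ^ q) (hf : Cfsg.Geo.IsUnitaryForm σ (Cfsg.hermForm n F q))
    (fr : Frame q m E Fv d) (hm : 1 ≤ m) (al : ℕ → F) (a c : F) (j : ℕ) (hj : j + 1 < m) :
    uM σ m E Fv d al a c *ᵥ Fv j = Fv j - σ (al j) • Fv (j + 1) := by
  rw [uM_mulVec, Eh_frame_F hσ fr hm (by omega), if_neg (by omega),
    Xp_f hσ hf fr al (m - 1) (by omega) j (by omega)]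

theorem conj_Xp (hσ : ∀ x, σ x = x ^ q) {M Mi : Matrix (Fin n) (Fin n) F} (hMi : M * Mi = 1)
    (hiM : Mi * M = 1)
    (hiso : ∀ x y, Cfsg.hermForm n F q (M *ᵥ x) (M *ᵥ y) = Cfsg.hermForm n F q x y)
    (E Fv : ℕ → Fin n → F) (al : ℕ → F) (k : ℕ) :
    M * Xp σ E Fv al k * Mi = Xp σ (fun i => M *ᵥ E i) (fun i => M *ᵥ Fv i) al k := by
  induction k with
  | zero => rw [Xp_zero, Xp_zero, Matrix.mul_one, hMi]
  | succ k ih =>
    rw [Xp_succ, Xp_succ, ← ih, ← conj_Sg hσ hMi hiso]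
    simp only [Matrix.mul_assoc]
    rw [← Matrix.mul_assoc Mi M, hiM, Matrix.one_mul]

theorem conj_uM (hσ : ∀ x, σ x = x ^ q) {M Mi : Matrix (Fin n) (Fin n) F} (hMi : M * Mi = 1)
    (hiM : Mi * M = 1)
    (hiso : ∀ x y, Cfsg.hermForm n F q (M *ᵥ x) (M *ᵥ y) = Cfsg.hermForm n F q x y)
    (m : ℕ) (E Fv : ℕ → Fin n → F) (d : Fin n → F) (al : ℕ → F) (a c : F) :
    M * uM σ m E Fv d al a c * Mi =
      uM σ m (fun i => M *ᵥ E i) (fun i => M *ᵥ Fv i) (M *ᵥ d) al a c := by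
  unfold uM
  rw [← conj_Xp hσ hMi hiM hiso, ← Matrix.mulVec_smul, ← conj_Eh hσ hMi hiso]
  simp only [Matrix.mul_assoc]
  rw [← Matrix.mul_assoc Mi M, hiM, Matrix.one_mul]

theorem Frame.map (hσ : ∀ x, σ x = x ^ q) (fr : Frame q m E Fv d)
    {M Mi : Matrix (Fin n) (Fin n) F} (hMi : M * Mi = 1) (hiM : Mi * M = 1)
    (hiso : ∀ x y, Cfsg.hermForm n F q (M *ᵥ x) (M *ᵥ y) = Cfsg.hermForm n F q x y) :
    Frame q m (fun i => M *ᵥ E i) (fun i => M *ᵥ Fv i) (M *ᵥ d) where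
  ee i j hi hj := by rw [hiso]; exact fr.ee i j hi hj
  ff i j hi hj := by rw [hiso]; exact fr.ff i j hi hj
  ef i j hi hj := by rw [hiso]; exact fr.ef i j hi hj
  fe i j hi hj := by rw [hiso]; exact fr.fe i j hi hj
  dd := by rw [hiso]; exact fr.dd
  ed i hi := by rw [hiso]; exact fr.ed i hi
  de i hi := by rw [hiso]; exact fr.de i hi
  fd i hi := by rw [hiso]; exact fr.fd i hi
  df i hi := by rw [hiso]; exact fr.df i hi
  span x := by
    have hx : x = M *ᵥ (Mi *ᵥ x) := by rw [Matrix.mulVec_mulVec, hMi, Matrix.one_mulVec]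
    have hB : ∀ z, Cfsg.hermForm n F q x (M *ᵥ z) = Cfsg.hermForm n F q (Mi *ᵥ x) z := by
      intro z
      conv_lhs => rw [hx]
      rw [hiso]
    have h := fr.span (Mi *ᵥ x)
    conv_lhs => rw [hx, h]
    rw [Matrix.mulVec_add, Matrix.mulVec_smul, Matrix.mulVec_sum, hB]
    congr 1
    apply Finset.sum_congr rfl
    intro i _
    rw [Matrix.mulVec_add, Matrix.mulVec_smul, Matrix.mulVec_smul, hB, hB]

theorem Frame.swap (hf : Cfsg.Geo.IsUnitaryForm σ (Cfsg.hermForm n F q)) (fr : Frame q m E Fv d) :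
    Frame q m Fv E d where
  ee := fr.ff
  ff := fr.ee
  ef := fr.fe
  fe := fr.ef
  dd := fr.dd
  ed := fr.fd
  de := fr.df
  fd := fr.ed
  df := fr.de
  span x := by
    have h := fr.span x
    conv_lhs => rw [h]
    congr 1
    apply Finset.sum_congr rfl
    intro i _
    rw [add_comm]

theorem Xp_congr (k : ℕ) {E E' Fv Fv' : ℕ → Fin n → F} (al : ℕ → F)
    (hE : ∀ i, i < k → E i = E' i) (hFv : ∀ i, i < k + 1 → Fv i = Fv' i) :
    Xp σ E Fv al k = Xp σ E' Fv' al k := by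
  induction k with
  | zero => rfl
  | succ k ih =>
    rw [Xp_succ, Xp_succ, ih (fun i hi => hE i (by omega)) (fun i hi => hFv i (by omega)),
      hE k (by omega), hFv (k + 1) (by omega)]

theorem uM_congr (m : ℕ) {E E' Fv Fv' : ℕ → Fin n → F} (d : Fin n → F) (al : ℕ → F) (a c : F)
    (hm : 1 ≤ m) (hE : ∀ i, i < m → E i = E' i) (hFv : ∀ i, i < m → Fv i = Fv' i) :
    uM σ m E Fv d al a c = uM σ m E' Fv' d al a c := by
  unfold uM
  rw [Xp_congr (m - 1) al (fun i hi => hE i (by omega)) (fun i hi => hFv i (by omega)),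
    hE (m - 1) (by omega)]

end Cfsg.Agent.Lib.helper15.SUn
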