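import Cfsg.Agent.Lib.helper15.SUn.Defs

set_option autoImplicit false
set_option linter.unusedSimpArgs false
set_option linter.unusedVariables false

namespace Cfsg.Agent.Lib.helper15.SUn

open Matrix

variable {F : Type*} [Field F] {n : ℕ} {q : ℕ} {σ : F ≃+* F}

theorem herm_zero_left (z : Fin n → F) : Cfsg.hermForm n F q 0 z = 0 := by
  have := herm_smul_left (q := q) (0 : F) (0 : Fin n → F) z
  rwa [zero_smul, zero_mul] at this

theorem herm_zero_right (hσ : ∀ x, σ x = x ^ q) (z : Fin n → F) :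
    Cfsg.hermForm n F q z 0 = 0 := by
  have := herm_smul_right hσ (0 : F) z (0 : Fin n → F)
  rwa [zero_smul, map_zero, zero_mul] at this

theorem herm_neg_left (x z : Fin n → F) :
    Cfsg.hermForm n F q (-x) z = -Cfsg.hermForm n F q x z := by
  have := herm_smul_left (q := q) (-1 : F) x z
  rwa [neg_one_smul, neg_one_mul] at this

theorem herm_neg_right (hσ : ∀ x, σ x = x ^ q) (x z : Fin n → F) :
    Cfsg.hermForm n F q x (-z) = -Cfsg.hermForm n F q x z := by
  have := herm_smul_right hσ (-1 : F) x z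
  rwa [neg_one_smul, map_neg, map_one, neg_one_mul] at this

theorem TV_iso (hσ : ∀ x, σ x = x ^ q) (hf : Cfsg.Geo.IsUnitaryForm σ (Cfsg.hermForm n F q))
    {y : Fin n → F} (hy : Cfsg.hermForm n F q y y = 0) {c : F} (hc : σ c = -c) (x x' : Fin n → F) :
    Cfsg.hermForm n F q (TV σ y c *ᵥ x) (TV σ y c *ᵥ x') = Cfsg.hermForm n F q x x' := by
  rw [TV_mulVec hσ, TV_mulVec hσ]
  simp only [herm_add_left, herm_add_right hσ, herm_smul_left, herm_smul_right hσ, hy, map_mul, hc]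
  rw [← hf.herm y x']
  ring

theorem Sg_iso (hσ : ∀ x, σ x = x ^ q) (hf : Cfsg.Geo.IsUnitaryForm σ (Cfsg.hermForm n F q))
    {a b : Fin n → F} (ha : Cfsg.hermForm n F q a a = 0) (hb : Cfsg.hermForm n F q b b = 0)
    (hab : Cfsg.hermForm n F q a b = 0) (s : F) (x x' : Fin n → F) :
    Cfsg.hermForm n F q (Sg σ a b s *ᵥ x) (Sg σ a b s *ᵥ x') = Cfsg.hermForm n F q x x' := by
  have hba : Cfsg.hermForm n F q b a = 0 := by rw [hf.herm, hab, map_zero]
  rw [Sg_mulVec hσ, Sg_mulVec hσ]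
  simp only [herm_add_left, herm_sub_left, herm_add_right hσ, herm_sub_right hσ, herm_smul_left,
    herm_smul_right hσ, ha, hb, hab, hba, map_mul, hf.involutive]
  rw [← hf.herm a x', ← hf.herm b x']
  ring

theorem Eh_iso (hσ : ∀ x, σ x = x ^ q) (hf : Cfsg.Geo.IsUnitaryForm σ (Cfsg.hermForm n F q))
    {p w : Fin n → F} (hp : Cfsg.hermForm n F q p p = 0) (hwp : Cfsg.hermForm n F q w p = 0)
    {c : F} (hc : c + σ c + Cfsg.hermForm n F q w w = 0) (x x' : Fin n → F) :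
    Cfsg.hermForm n F q (Eh σ p w c *ᵥ x) (Eh σ p w c *ᵥ x') = Cfsg.hermForm n F q x x' := by
  have hpw : Cfsg.hermForm n F q p w = 0 := by rw [hf.herm, hwp, map_zero]
  rw [Eh_mulVec hσ, Eh_mulVec hσ]
  simp only [herm_add_left, herm_sub_left, herm_add_right hσ, herm_sub_right hσ, herm_smul_left,
    herm_smul_right hσ, hp, hwp, hpw, map_mul]
  rw [← hf.herm p x', ← hf.herm w x']
  linear_combination (Cfsg.hermForm n F q x p * Cfsg.hermForm n F q p x') * hc

theorem R_add_left (y y' z : Fin n → F) : R σ (y + y') z = R σ y z + R σ y' z := by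
  unfold R
  rw [Matrix.add_vecMulVec]

theorem R_add_right (y z z' : Fin n → F) : R σ y (z + z') = R σ y z + R σ y z' := by
  unfold R
  rw [← Matrix.vecMulVec_add]
  congr 1
  funext j
  simp

theorem R_smul_left (k : F) (y z : Fin n → F) : R σ (k • y) z = k • R σ y z := by
  unfold R
  rw [Matrix.smul_vecMulVec]

theorem R_smul_right (k : F) (y z : Fin n → F) : R σ y (k • z) = σ k • R σ y z := by
  unfold R
  rw [← Matrix.vecMulVec_smul]
  congr 1
  funext j
  simp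

theorem R_zero_left (z : Fin n → F) : R σ 0 z = 0 := by
  have := R_smul_left (σ := σ) (0 : F) (0 : Fin n → F) z
  rwa [zero_smul, zero_smul] at this

theorem R_zero_right (y : Fin n → F) : R σ y 0 = 0 := by
  have := R_smul_right (σ := σ) (0 : F) y (0 : Fin n → F)
  rwa [zero_smul, map_zero, zero_smul] at this

theorem R_det (hσ : ∀ x, σ x = x ^ q) (y z : Fin n → F) (k : F) :
    (1 + k • R σ y z).det = 1 + k * Cfsg.hermForm n F q y z := by
  unfold R
  rw [← Matrix.smul_vecMulVec, Matrix.vecMulVec_eq Unit, Matrix.det_one_add_replicateCol_mul_replicateRow]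
  congr 1
  unfold Cfsg.hermForm dotProduct
  rw [Finset.mul_sum]
  apply Finset.sum_congr rfl
  intro i _
  rw [Pi.smul_apply, smul_eq_mul]
  show σ (z i) * (k * y i) = _
  rw [hσ]
  ring

theorem TV_det (hσ : ∀ x, σ x = x ^ q) {y : Fin n → F} (hy : Cfsg.hermForm n F q y y = 0) (c : F) :
    (TV σ y c).det = 1 := by
  unfold TV
  rw [R_det hσ, hy, mul_zero, add_zero]

theorem Sg_factor (hσ : ∀ x, σ x = x ^ q) {a b : Fin n → F} (hb : Cfsg.hermForm n F q b b = 0)
    (s : F) : Sg σ a b s = (1 + s • R σ a b) * (1 + (-σ s) • R σ b a) := by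
  unfold Sg
  rw [Matrix.add_mul, Matrix.mul_add, Matrix.mul_add, Matrix.one_mul, Matrix.one_mul,
    Matrix.mul_one, Matrix.smul_mul, Matrix.mul_smul, R_mul_R hσ, hb]
  simp only [zero_smul, smul_zero, add_zero, neg_smul]
  abel

theorem Sg_det (hσ : ∀ x, σ x = x ^ q) (hf : Cfsg.Geo.IsUnitaryForm σ (Cfsg.hermForm n F q))
    {a b : Fin n → F} (ha : Cfsg.hermForm n F q a a = 0) (hb : Cfsg.hermForm n F q b b = 0)
    (hab : Cfsg.hermForm n F q a b = 0) (s : F) : (Sg σ a b s).det = 1 := by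
  have hba : Cfsg.hermForm n F q b a = 0 := by rw [hf.herm, hab, map_zero]
  rw [Sg_factor hσ hb, Matrix.det_mul, R_det hσ, R_det hσ, hab, hba]
  ring

theorem three_factor (hσ : ∀ x, σ x = x ^ q) (hf : Cfsg.Geo.IsUnitaryForm σ (Cfsg.hermForm n F q))
    {p w : Fin n → F} (hp : Cfsg.hermForm n F q p p = 0) (hwp : Cfsg.hermForm n F q w p = 0)
    (k₁ k₂ c : F) :
    (1 + k₂ • R σ w p) * (1 + k₁ • R σ p w) * (1 + c • R σ p p) =
      1 + k₂ • R σ w p + k₁ • R σ p w + c • R σ p p := by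
  have hpw : Cfsg.hermForm n F q p w = 0 := by rw [hf.herm, hwp, map_zero]
  simp only [Matrix.add_mul, Matrix.mul_add, Matrix.one_mul, Matrix.mul_one, Matrix.smul_mul,
    Matrix.mul_smul, R_mul_R hσ, hp, hwp, hpw, zero_smul, smul_zero, add_zero]

theorem Eh_factor (hσ : ∀ x, σ x = x ^ q) (hf : Cfsg.Geo.IsUnitaryForm σ (Cfsg.hermForm n F q))
    {p w : Fin n → F} (hp : Cfsg.hermForm n F q p p = 0) (hwp : Cfsg.hermForm n F q w p = 0)
    (c : F) : Eh σ p w c =
      (1 + (-1 : F) • R σ w p) * (1 + (1 : F) • R σ p w) * (1 + c • R σ p p) := by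
  rw [three_factor hσ hf hp hwp]
  unfold Eh
  rw [one_smul, neg_one_smul]
  abel

theorem Eh_det (hσ : ∀ x, σ x = x ^ q) (hf : Cfsg.Geo.IsUnitaryForm σ (Cfsg.hermForm n F q))
    {p w : Fin n → F} (hp : Cfsg.hermForm n F q p p = 0) (hwp : Cfsg.hermForm n F q w p = 0)
    (c : F) : (Eh σ p w c).det = 1 := by
  have hpw : Cfsg.hermForm n F q p w = 0 := by rw [hf.herm, hwp, map_zero]
  rw [Eh_factor hσ hf hp hwp, Matrix.det_mul, Matrix.det_mul, R_det hσ, R_det hσ, R_det hσ, hp,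
    hwp, hpw]
  ring

theorem conj_R (hσ : ∀ x, σ x = x ^ q) {M Mi : Matrix (Fin n) (Fin n) F} (hMi : M * Mi = 1)
    (hiso : ∀ x y, Cfsg.hermForm n F q (M *ᵥ x) (M *ᵥ y) = Cfsg.hermForm n F q x y)
    (y z : Fin n → F) : M * R σ y z * Mi = R σ (M *ᵥ y) (M *ᵥ z) := by
  apply mat_ext
  intro x
  rw [← Matrix.mulVec_mulVec, ← Matrix.mulVec_mulVec, R_mulVec hσ, R_mulVec hσ,
    Matrix.mulVec_smul]
  congr 1
  have h1 : M *ᵥ (Mi *ᵥ x) = x := by
    rw [Matrix.mulVec_mulVec, hMi, Matrix.one_mulVec]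
  rw [← hiso (Mi *ᵥ x) z, h1]

theorem conj_one_add {M Mi X : Matrix (Fin n) (Fin n) F} (hMi : M * Mi = 1) :
    M * (1 + X) * Mi = 1 + M * X * Mi := by
  rw [Matrix.mul_add, Matrix.add_mul, Matrix.mul_one, hMi]

theorem conj_TV (hσ : ∀ x, σ x = x ^ q) {M Mi : Matrix (Fin n) (Fin n) F} (hMi : M * Mi = 1)
    (hiso : ∀ x y, Cfsg.hermForm n F q (M *ᵥ x) (M *ᵥ y) = Cfsg.hermForm n F q x y)
    (y : Fin n → F) (c : F) : M * TV σ y c * Mi = TV σ (M *ᵥ y) c := by
  unfold TV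
  rw [conj_one_add hMi, Matrix.mul_smul, Matrix.smul_mul, conj_R hσ hMi hiso]

theorem conj_Sg (hσ : ∀ x, σ x = x ^ q) {M Mi : Matrix (Fin n) (Fin n) F} (hMi : M * Mi = 1)
    (hiso : ∀ x y, Cfsg.hermForm n F q (M *ᵥ x) (M *ᵥ y) = Cfsg.hermForm n F q x y)
    (a b : Fin n → F) (s : F) : M * Sg σ a b s * Mi = Sg σ (M *ᵥ a) (M *ᵥ b) s := by
  unfold Sg
  rw [Matrix.mul_sub, Matrix.sub_mul, conj_one_add hMi, Matrix.mul_smul, Matrix.smul_mul,
    Matrix.mul_smul, Matrix.smul_mul, conj_R hσ hMi hiso, conj_R hσ hMi hiso]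

theorem conj_Eh (hσ : ∀ x, σ x = x ^ q) {M Mi : Matrix (Fin n) (Fin n) F} (hMi : M * Mi = 1)
    (hiso : ∀ x y, Cfsg.hermForm n F q (M *ᵥ x) (M *ᵥ y) = Cfsg.hermForm n F q x y)
    (p w : Fin n → F) (c : F) : M * Eh σ p w c * Mi = Eh σ (M *ᵥ p) (M *ᵥ w) c := by
  unfold Eh
  rw [Matrix.mul_add, Matrix.add_mul, Matrix.mul_sub, Matrix.sub_mul, conj_one_add hMi,
    Matrix.mul_smul, Matrix.smul_mul, conj_R hσ hMi hiso, conj_R hσ hMi hiso, conj_R hσ hMi hiso]

theorem TV_zero (y : Fin n → F) : TV σ y 0 = 1 := by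
  unfold TV
  rw [zero_smul, add_zero]

theorem TV_mul (hσ : ∀ x, σ x = x ^ q) {y : Fin n → F} (hy : Cfsg.hermForm n F q y y = 0)
    (c c' : F) : TV σ y c * TV σ y c' = TV σ y (c + c') := by
  unfold TV
  rw [Matrix.add_mul, Matrix.mul_add, Matrix.mul_add, Matrix.one_mul, Matrix.one_mul,
    Matrix.mul_one, Matrix.smul_mul, Matrix.mul_smul, R_mul_R hσ, hy, zero_smul, smul_zero,
    smul_zero, add_zero, add_smul]
  abel

theorem TV_smul (k : F) (y : Fin n → F) (c : F) :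
    TV σ (k • y) c = TV σ y (k * σ k * c) := by
  unfold TV
  rw [R_smul_left, R_smul_right, smul_smul, smul_smul]
  congr 2
  ring

theorem Sg_zero (a b : Fin n → F) : Sg σ a b 0 = 1 := by
  unfold Sg
  rw [map_zero, zero_smul, zero_smul, add_zero, sub_zero]

theorem Sg_mul (hσ : ∀ x, σ x = x ^ q) (hf : Cfsg.Geo.IsUnitaryForm σ (Cfsg.hermForm n F q))
    {a b : Fin n → F} (ha : Cfsg.hermForm n F q a a = 0) (hb : Cfsg.hermForm n F q b b = 0)
    (hab : Cfsg.hermForm n F q a b = 0) (s s' : F) :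
    Sg σ a b s * Sg σ a b s' = Sg σ a b (s + s') := by
  have hba : Cfsg.hermForm n F q b a = 0 := by rw [hf.herm, hab, map_zero]
  unfold Sg
  simp only [Matrix.add_mul, Matrix.mul_add, Matrix.sub_mul, Matrix.mul_sub, Matrix.one_mul,
    Matrix.mul_one, Matrix.smul_mul, Matrix.mul_smul, R_mul_R hσ, ha, hb, hab, hba, zero_smul,
    smul_zero, add_zero, sub_zero, map_add, add_smul]
  abel

theorem Sg_smul_left (k : F) (a b : Fin n → F) (s : F) :
    Sg σ (k • a) b s = Sg σ a b (s * k) := by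
  unfold Sg
  rw [R_smul_left, R_smul_right, smul_smul, smul_smul, map_mul]

theorem Sg_smul_right (hf : Cfsg.Geo.IsUnitaryForm σ (Cfsg.hermForm n F q)) (k : F)
    (a b : Fin n → F) (s : F) : Sg σ a (k • b) s = Sg σ a b (s * σ k) := by
  unfold Sg
  rw [R_smul_left, R_smul_right, smul_smul, smul_smul, map_mul, hf.involutive]

theorem Eh_zero (p : Fin n → F) : Eh σ p 0 0 = 1 := by
  unfold Eh
  rw [R_zero_left, R_zero_right, zero_smul, add_zero, sub_zero, add_zero]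

theorem Eh_mul (hσ : ∀ x, σ x = x ^ q) (hf : Cfsg.Geo.IsUnitaryForm σ (Cfsg.hermForm n F q))
    {p w w' : Fin n → F} (hp : Cfsg.hermForm n F q p p = 0) (hwp : Cfsg.hermForm n F q w p = 0)
    (hwp' : Cfsg.hermForm n F q w' p = 0) (c c' : F) :
    Eh σ p w c * Eh σ p w' c' =
      Eh σ p (w + w') (c + c' - Cfsg.hermForm n F q w' w) := by
  have hpw : Cfsg.hermForm n F q p w = 0 := by rw [hf.herm, hwp, map_zero]
  have hpw' : Cfsg.hermForm n F q p w' = 0 := by rw [hf.herm, hwp', map_zero]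
  unfold Eh
  simp only [Matrix.add_mul, Matrix.mul_add, Matrix.sub_mul, Matrix.mul_sub, Matrix.one_mul,
    Matrix.mul_one, Matrix.smul_mul, Matrix.mul_smul, R_mul_R hσ, hp, hwp, hwp', hpw, hpw',
    zero_smul, smul_zero, add_zero, sub_zero, R_add_left, R_add_right, add_smul, sub_smul]
  abel

end Cfsg.Agent.Lib.helper15.SUn
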