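import Mathlib
import Cfsg.Prelude.Def_Classical
import Cfsg.Prelude.Def_ClassicalGeometry
import Cfsg.Prelude.Def_GeometricClasses

set_option autoImplicit false

namespace Cfsg.Agent.Lib.helper15.SUn

open Matrix

variable {F : Type*} [Field F] {n : ℕ} {q : ℕ}

def R (σ : F ≃+* F) (y z : Fin n → F) : Matrix (Fin n) (Fin n) F :=
  Matrix.vecMulVec y (fun j => σ (z j))

def TV (σ : F ≃+* F) (y : Fin n → F) (c : F) : Matrix (Fin n) (Fin n) F :=
  1 + c • R σ y y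

def Sg (σ : F ≃+* F) (a b : Fin n → F) (s : F) : Matrix (Fin n) (Fin n) F :=
  1 + s • R σ a b - σ s • R σ b a

def Eh (σ : F ≃+* F) (p w : Fin n → F) (c : F) : Matrix (Fin n) (Fin n) F :=
  1 + R σ p w - R σ w p + c • R σ p p

def InH (H : Subgroup ↥(Cfsg.SU n F q)) (M : Matrix (Fin n) (Fin n) F) : Prop :=
  ∃ A : ↥(Cfsg.SU n F q), A ∈ H ∧
    ((A : Matrix.SpecialLinearGroup (Fin n) F) : Matrix (Fin n) (Fin n) F) = M

def DD (σ : F ≃+* F) (H : Subgroup ↥(Cfsg.SU n F q)) : Set (Fin n → F) :=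
  {y | Cfsg.hermForm n F q y y = 0 ∧ ∀ c : F, σ c = -c → InH H (TV σ y c)}

structure Frame (q : ℕ) (m : ℕ) (E Fv : ℕ → Fin n → F) (d : Fin n → F) : Prop where
  ee : ∀ i j, i < m → j < m → Cfsg.hermForm n F q (E i) (E j) = 0
  ff : ∀ i j, i < m → j < m → Cfsg.hermForm n F q (Fv i) (Fv j) = 0
  ef : ∀ i j, i < m → j < m → Cfsg.hermForm n F q (E i) (Fv j) = if i = j then 1 else 0
  fe : ∀ i j, i < m → j < m → Cfsg.hermForm n F q (Fv i) (E j) = if i = j then 1 else 0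
  dd : Cfsg.hermForm n F q d d = 1
  ed : ∀ i, i < m → Cfsg.hermForm n F q (E i) d = 0
  de : ∀ i, i < m → Cfsg.hermForm n F q d (E i) = 0
  fd : ∀ i, i < m → Cfsg.hermForm n F q (Fv i) d = 0
  df : ∀ i, i < m → Cfsg.hermForm n F q d (Fv i) = 0
  span : ∀ x : Fin n → F, x = (∑ i ∈ Finset.range m,
    (Cfsg.hermForm n F q x (Fv i) • E i + Cfsg.hermForm n F q x (E i) • Fv i)) +
      Cfsg.hermForm n F q x d • d

def Xp (σ : F ≃+* F) (E Fv : ℕ → Fin n → F) (al : ℕ → F) : ℕ → Matrix (Fin n) (Fin n) F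
  | 0 => 1
  | k + 1 => Xp σ E Fv al k * Sg σ (E k) (Fv (k + 1)) (al k)

def uM (σ : F ≃+* F) (m : ℕ) (E Fv : ℕ → Fin n → F) (d : Fin n → F) (al : ℕ → F) (a c : F) :
    Matrix (Fin n) (Fin n) F :=
  Xp σ E Fv al (m - 1) * Eh σ (E (m - 1)) (σ a • d) c

section calculus

variable {σ : F ≃+* F}

theorem mat_ext {M N : Matrix (Fin n) (Fin n) F} (h : ∀ x, M *ᵥ x = N *ᵥ x) : M = N :=
  Matrix.ext_of_mulVec_single (fun _ => h _)

theorem herm_add_left (x y z : Fin n → F) :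
    Cfsg.hermForm n F q (x + y) z = Cfsg.hermForm n F q x z + Cfsg.hermForm n F q y z := by
  unfold Cfsg.hermForm
  rw [← Finset.sum_add_distrib]
  apply Finset.sum_congr rfl
  intro i _
  rw [Pi.add_apply, add_mul]

theorem herm_smul_left (c : F) (x z : Fin n → F) :
    Cfsg.hermForm n F q (c • x) z = c * Cfsg.hermForm n F q x z := by
  unfold Cfsg.hermForm
  rw [Finset.mul_sum]
  apply Finset.sum_congr rfl
  intro i _
  rw [Pi.smul_apply, smul_eq_mul, mul_assoc]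

theorem herm_sub_left (x y z : Fin n → F) :
    Cfsg.hermForm n F q (x - y) z = Cfsg.hermForm n F q x z - Cfsg.hermForm n F q y z := by
  unfold Cfsg.hermForm
  rw [← Finset.sum_sub_distrib]
  apply Finset.sum_congr rfl
  intro i _
  rw [Pi.sub_apply, sub_mul]

theorem herm_add_right (hσ : ∀ x, σ x = x ^ q) (x y z : Fin n → F) :
    Cfsg.hermForm n F q x (y + z) = Cfsg.hermForm n F q x y + Cfsg.hermForm n F q x z := by
  unfold Cfsg.hermForm
  rw [← Finset.sum_add_distrib]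
  apply Finset.sum_congr rfl
  intro i _
  rw [Pi.add_apply, ← hσ, ← hσ, ← hσ, map_add, mul_add]

theorem herm_sub_right (hσ : ∀ x, σ x = x ^ q) (x y z : Fin n → F) :
    Cfsg.hermForm n F q x (y - z) = Cfsg.hermForm n F q x y - Cfsg.hermForm n F q x z := by
  unfold Cfsg.hermForm
  rw [← Finset.sum_sub_distrib]
  apply Finset.sum_congr rfl
  intro i _
  rw [Pi.sub_apply, ← hσ, ← hσ, ← hσ, map_sub, mul_sub]

theorem herm_smul_right (hσ : ∀ x, σ x = x ^ q) (c : F) (x z : Fin n → F) :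
    Cfsg.hermForm n F q x (c • z) = σ c * Cfsg.hermForm n F q x z := by
  unfold Cfsg.hermForm
  rw [Finset.mul_sum]
  apply Finset.sum_congr rfl
  intro i _
  rw [Pi.smul_apply, smul_eq_mul, mul_pow, hσ]
  ring

theorem R_mulVec (hσ : ∀ x, σ x = x ^ q) (y z x : Fin n → F) :
    R σ y z *ᵥ x = Cfsg.hermForm n F q x z • y := by
  funext i
  unfold R Cfsg.hermForm
  rw [Matrix.mulVec, dotProduct, Pi.smul_apply, smul_eq_mul, Finset.sum_mul]
  apply Finset.sum_congr rfl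
  intro j _
  rw [Matrix.vecMulVec_apply, hσ]
  ring

theorem R_mul_R (hσ : ∀ x, σ x = x ^ q) (y z y' z' : Fin n → F) :
    R σ y z * R σ y' z' = Cfsg.hermForm n F q y' z • R σ y z' := by
  apply mat_ext
  intro x
  rw [← Matrix.mulVec_mulVec, R_mulVec hσ, R_mulVec hσ, herm_smul_left, Matrix.smul_mulVec,
    R_mulVec hσ, smul_smul, mul_comm]

theorem TV_eq (hσ : ∀ x, σ x = x ^ q) (y : Fin n → F) (c : F) :
    TV σ y c = Cfsg.unitaryTransvection n q y c := by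
  unfold TV R Cfsg.unitaryTransvection
  congr 3
  funext j
  exact hσ _

theorem TV_mulVec (hσ : ∀ x, σ x = x ^ q) (y : Fin n → F) (c : F) (x : Fin n → F) :
    TV σ y c *ᵥ x = x + (c * Cfsg.hermForm n F q x y) • y := by
  unfold TV
  rw [Matrix.add_mulVec, Matrix.one_mulVec, Matrix.smul_mulVec, R_mulVec hσ, smul_smul]

theorem Sg_mulVec (hσ : ∀ x, σ x = x ^ q) (a b : Fin n → F) (s : F) (x : Fin n → F) :
    Sg σ a b s *ᵥ x = x + (s * Cfsg.hermForm n F q x b) • a -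
      (σ s * Cfsg.hermForm n F q x a) • b := by
  unfold Sg
  rw [Matrix.sub_mulVec, Matrix.add_mulVec, Matrix.one_mulVec, Matrix.smul_mulVec,
    Matrix.smul_mulVec, R_mulVec hσ, R_mulVec hσ, smul_smul, smul_smul]

theorem Eh_mulVec (hσ : ∀ x, σ x = x ^ q) (p w : Fin n → F) (c : F) (x : Fin n → F) :
    Eh σ p w c *ᵥ x = x + Cfsg.hermForm n F q x w • p - Cfsg.hermForm n F q x p • w +
      (c * Cfsg.hermForm n F q x p) • p := by
  unfold Eh
  rw [Matrix.add_mulVec, Matrix.sub_mulVec, Matrix.add_mulVec, Matrix.one_mulVec,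
    Matrix.smul_mulVec, R_mulVec hσ, R_mulVec hσ, R_mulVec hσ, smul_smul]

theorem Xp_zero (E Fv : ℕ → Fin n → F) (al : ℕ → F) : Xp σ E Fv al 0 = 1 := rfl

theorem Xp_succ (E Fv : ℕ → Fin n → F) (al : ℕ → F) (k : ℕ) :
    Xp σ E Fv al (k + 1) = Xp σ E Fv al k * Sg σ (E k) (Fv (k + 1)) (al k) := rfl

end calculus

section grp

def mkSU (M : Matrix (Fin n) (Fin n) F) (hd : M.det = 1)
    (hiso : ∀ x y, Cfsg.hermForm n F q (M *ᵥ x) (M *ᵥ y) = Cfsg.hermForm n F q x y) :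
    ↥(Cfsg.SU n F q) :=
  ⟨⟨M, hd⟩, hiso⟩

theorem coe_mkSU (M : Matrix (Fin n) (Fin n) F) (hd : M.det = 1)
    (hiso : ∀ x y, Cfsg.hermForm n F q (M *ᵥ x) (M *ᵥ y) = Cfsg.hermForm n F q x y) :
    ((mkSU M hd hiso : ↥(Cfsg.SU n F q)) : Matrix.SpecialLinearGroup (Fin n) F).1 = M := rfl

theorem su_iso (A : ↥(Cfsg.SU n F q)) (x y : Fin n → F) :
    Cfsg.hermForm n F q
      (((A : Matrix.SpecialLinearGroup (Fin n) F) : Matrix (Fin n) (Fin n) F) *ᵥ x)
      (((A : Matrix.SpecialLinearGroup (Fin n) F) : Matrix (Fin n) (Fin n) F) *ᵥ y) =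
      Cfsg.hermForm n F q x y := A.2 x y

theorem su_det (A : ↥(Cfsg.SU n F q)) :
    ((A : Matrix.SpecialLinearGroup (Fin n) F) : Matrix (Fin n) (Fin n) F).det = 1 :=
  (A : Matrix.SpecialLinearGroup (Fin n) F).2

theorem su_coe_mul (A B : ↥(Cfsg.SU n F q)) :
    (((A * B : ↥(Cfsg.SU n F q)) : Matrix.SpecialLinearGroup (Fin n) F) :
      Matrix (Fin n) (Fin n) F) =
      ((A : Matrix.SpecialLinearGroup (Fin n) F) : Matrix (Fin n) (Fin n) F) *
        ((B : Matrix.SpecialLinearGroup (Fin n) F) : Matrix (Fin n) (Fin n) F) := rfl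

theorem su_coe_one :
    (((1 : ↥(Cfsg.SU n F q)) : Matrix.SpecialLinearGroup (Fin n) F) :
      Matrix (Fin n) (Fin n) F) = 1 := rfl

theorem su_ext {A B : ↥(Cfsg.SU n F q)}
    (h : ((A : Matrix.SpecialLinearGroup (Fin n) F) : Matrix (Fin n) (Fin n) F) =
      ((B : Matrix.SpecialLinearGroup (Fin n) F) : Matrix (Fin n) (Fin n) F)) : A = B :=
  Subtype.ext (Subtype.ext h)

theorem su_inv_mul (A : ↥(Cfsg.SU n F q)) :
    (((A⁻¹ : ↥(Cfsg.SU n F q)) : Matrix.SpecialLinearGroup (Fin n) F) :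
      Matrix (Fin n) (Fin n) F) *
      ((A : Matrix.SpecialLinearGroup (Fin n) F) : Matrix (Fin n) (Fin n) F) = 1 := by
  rw [← su_coe_mul, inv_mul_cancel, su_coe_one]

theorem su_mul_inv (A : ↥(Cfsg.SU n F q)) :
    ((A : Matrix.SpecialLinearGroup (Fin n) F) : Matrix (Fin n) (Fin n) F) *
      (((A⁻¹ : ↥(Cfsg.SU n F q)) : Matrix.SpecialLinearGroup (Fin n) F) :
      Matrix (Fin n) (Fin n) F) = 1 := by
  rw [← su_coe_mul, mul_inv_cancel, su_coe_one]

variable {H : Subgroup ↥(Cfsg.SU n F q)}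

theorem InH.of_mem {A : ↥(Cfsg.SU n F q)} (hA : A ∈ H) :
    InH H ((A : Matrix.SpecialLinearGroup (Fin n) F) : Matrix (Fin n) (Fin n) F) :=
  ⟨A, hA, rfl⟩

theorem InH.one : InH H (1 : Matrix (Fin n) (Fin n) F) := ⟨1, H.one_mem, rfl⟩

theorem InH.mul {M N : Matrix (Fin n) (Fin n) F} (hM : InH H M) (hN : InH H N) :
    InH H (M * N) := by
  obtain ⟨A, hA, rfl⟩ := hM
  obtain ⟨B, hB, rfl⟩ := hN
  exact ⟨A * B, H.mul_mem hA hB, rfl⟩

theorem InH.pow {M : Matrix (Fin n) (Fin n) F} (hM : InH H M) (k : ℕ) : InH H (M ^ k) := by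
  induction k with
  | zero => rw [pow_zero]; exact InH.one
  | succ k ih => rw [pow_succ]; exact ih.mul hM

theorem InH.of_mul_eq_one {M N : Matrix (Fin n) (Fin n) F} (hM : InH H M) (h : M * N = 1) :
    InH H N := by
  obtain ⟨A, hA, rfl⟩ := hM
  refine ⟨A⁻¹, H.inv_mem hA, ?_⟩
  have h1 := su_inv_mul A
  calc (((A⁻¹ : ↥(Cfsg.SU n F q)) : Matrix.SpecialLinearGroup (Fin n) F) :
        Matrix (Fin n) (Fin n) F)
      = (((A⁻¹ : ↥(Cfsg.SU n F q)) : Matrix.SpecialLinearGroup (Fin n) F) :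
        Matrix (Fin n) (Fin n) F) *
        (((A : Matrix.SpecialLinearGroup (Fin n) F) : Matrix (Fin n) (Fin n) F) * N) := by
          rw [h, Matrix.mul_one]
    _ = N := by rw [← Matrix.mul_assoc, h1, Matrix.one_mul]

end grp

end Cfsg.Agent.Lib.helper15.SUn
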