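import Cfsg.Agent.Lib.helper15.SUn.Ratio

set_option autoImplicit false

namespace Cfsg.Agent.Lib.helper15.SUn

open Matrix Cfsg.Agent.Lib.Helper28.UGen
  Cfsg.Agent.Lib.helper2.SUnP2 Cfsg.Agent.Lib.helper2.SUnP4 Cfsg.Agent.Lib.helper2.SUnP5
  Cfsg.Agent.Lib.Helper10.SUnP3 Cfsg.Agent.Lib.Helper10.SUnP10 Cfsg.Agent.Lib.Helper10.SUnP12
  Cfsg.Agent.Lib.Helper13.SUnP6 Cfsg.Agent.Lib.Helper13.SUnP8b Cfsg.Agent.Lib.Helper13.SUnP9
  Cfsg.Agent.Lib.Helper13.SUnP14 Cfsg.Agent.Lib.Helper13.SUnP15 Cfsg.Agent.Lib.Helper21.SUnP7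

variable {F : Type*} [Field F] [Fintype F] {n : ℕ} {q : ℕ} {σ : F ≃+* F}

theorem even_params (hF : Fintype.card F = q ^ 2) (hσ : ∀ x, σ x = x ^ q)
    (hf : Cfsg.Geo.IsUnitaryForm σ (Cfsg.hermForm n F q)) (h2 : (2 : F) = 0) :
    ∃ ν κ ε : F, σ ν = ν ∧ ν ≠ 0 ∧ (∀ r : F, σ r = r → r ≠ 0 → ∃ j : ℕ, r = ν ^ j) ∧
      κ ≠ 0 ∧ κ + σ κ = ν ∧ ε = κ / σ κ ∧ ε ≠ 0 ∧ σ ε = ε⁻¹ ∧ 1 + ε ≠ 0 ∧ κ - 1 ≠ 0 := by
  obtain ⟨ν, hν, hν0, hgen⟩ := exists_fix_gen hF hσ hf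
  obtain ⟨θ, hθ⟩ := Cfsg.Agent.Lib.Helper28.UForm.trace_surj hf 1 (map_one σ)
  have hκ : ν * θ + σ (ν * θ) = ν := by rw [map_mul, hν, ← mul_add, hθ, mul_one]
  have hκ0 : ν * θ ≠ 0 := by
    intro h
    rw [h, map_zero, add_zero] at hκ
    exact hν0 hκ.symm
  have hsκ0 : σ (ν * θ) ≠ 0 := by rwa [Ne, map_eq_zero]
  refine ⟨ν, ν * θ, ν * θ / σ (ν * θ), hν, hν0, hgen, hκ0, hκ, rfl, div_ne_zero hκ0 hsκ0,
    ?_, ?_, ?_⟩
  · rw [map_div₀, hf.involutive, inv_div]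
  · intro h
    apply hν0
    rw [← hκ]
    field_simp at h
    linear_combination h
  · intro h
    have h1 : ν * θ = 1 := by linear_combination h
    rw [h1, map_one] at hκ
    apply hν0
    rw [← hκ]
    linear_combination h2

section core

variable {m : ℕ} {E Fv : ℕ → Fin n → F} {d : Fin n → F} {H : Subgroup ↥(Cfsg.SU n F q)}

theorem skew_gen (hσ : ∀ x, σ x = x ^ q) {y : Fin n → F}
    (hy : Cfsg.hermForm n F q y y = 0) {ν c0 : F}
    (hgen : ∀ r : F, σ r = r → r ≠ 0 → ∃ j : ℕ, r = ν ^ j)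
    (hc0 : c0 ∈ SS hσ H hy) (hc00 : c0 ≠ 0)
    (hmul : ∀ c ∈ SS hσ H hy, c * ν ∈ SS hσ H hy) :
    ∀ c : F, σ c = -c → c ∈ SS hσ H hy := by
  intro c hc
  by_cases hc0' : c = 0
  · rw [hc0']
    exact (SS hσ H hy).zero_mem
  have hr : σ (c / c0) = c / c0 := by
    rw [map_div₀, hc, hc0.1, neg_div_neg_eq]
  obtain ⟨j, hj⟩ := hgen (c / c0) hr (div_ne_zero hc0' hc00)
  have hpow : ∀ j : ℕ, c0 * ν ^ j ∈ SS hσ H hy := by
    intro j
    induction j with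
    | zero => rw [pow_zero, mul_one]; exact hc0
    | succ j ih => rw [pow_succ, ← mul_assoc]; exact hmul _ ih
  have : c = c0 * ν ^ j := by
    rw [← hj]
    field_simp
  rw [this]
  exact hpow j

theorem even_core (hF : Fintype.card F = q ^ 2) (hσ : ∀ x, σ x = x ^ q)
    (hf : Cfsg.Geo.IsUnitaryForm σ (Cfsg.hermForm n F q)) (h2 : (2 : F) = 0)
    (hm : 2 ≤ m) (hn : n = 2 * m + 1) (fr : Frame q m E Fv d)
    {ν κ ε : F} (hgen : ∀ r : F, σ r = r → r ≠ 0 → ∃ j : ℕ, r = ν ^ j)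
    (hκ : κ + σ κ = ν) (hε0 : ε ≠ 0) (hσε : σ ε = ε⁻¹)
    (hε1 : 1 + ε ≠ 0) (hκ1 : κ - 1 ≠ 0)
    {al al' : ℕ → F} (hal : ∀ j, al j = 1) (hal'0 : al' 0 = κ) (hal' : ∀ j, 1 ≤ j → al' j = 1)
    (hU : InH H (uM σ m E Fv d al (1 + ε) ε⁻¹))
    (hU' : InH H (uM σ m E Fv d al' ((1 + ε) * ε) ε⁻¹))
    (hL : InH H (uM σ m Fv E d al (1 + ε) ε⁻¹)) :
    ∀ y : Fin n → F, Cfsg.hermForm n F q y y = 0 → y ∈ DD σ H := by
  have hm1 : 1 ≤ m := by omega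
  have hsa : σ (1 + ε) = 1 + ε⁻¹ := by rw [map_add, map_one, hσε]
  have hsc : σ ε⁻¹ = ε := by rw [map_inv₀, hσε, inv_inv]
  have hc : ε⁻¹ + σ ε⁻¹ + (1 + ε) * σ (1 + ε) = 0 := by
    rw [hsa, hsc]
    field_simp
    linear_combination (1 + ε + ε ^ 2) * h2
  have he00 : Cfsg.hermForm n F q (E 0) (E 0) = 0 := fr.ee 0 0 (by omega) (by omega)
  have he11 : Cfsg.hermForm n F q (E 1) (E 1) = 0 := fr.ee 1 1 (by omega) (by omega)
  have he10 : Cfsg.hermForm n F q (E 1) (E 0) = 0 := fr.ee 1 0 (by omega) (by omega)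
  -- Stage 0
  have hX := uM_ratio hσ hf fr hm (al := al) (al' := al')
    (fun j hj => by rw [hal' j hj, hal j]) (1 + ε) ((1 + ε) * ε) ε⁻¹
  rw [hal'0, hal 0] at hX
  have hXin : InH H (Sg σ (E 0) (Fv 1) (κ - 1) *
      Eh σ (Xp σ E Fv al (m - 1) *ᵥ E (m - 1)) (σ ((1 + ε) * ε - (1 + ε)) • d)
        (σ (1 + ε) * ((1 + ε) * ε - (1 + ε)))) := by
    apply inh_cancel_right _ hU
    rw [hX]
    exact hU'
  have hdp : Cfsg.hermForm n F q d (Xp σ E Fv al (m - 1) *ᵥ E (m - 1)) = 0 := by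
    have := Xp_iso hσ hf fr al (m - 1) (by omega) d (E (m - 1))
    rw [Xp_d hσ hf fr al (m - 1) (by omega)] at this
    rw [this]
    exact fr.de _ (by omega)
  have hpe0 : Cfsg.hermForm n F q (Xp σ E Fv al (m - 1) *ᵥ E (m - 1)) (E 0) = 0 := by
    have := Xp_iso hσ hf fr al (m - 1) (by omega) (E (m - 1)) (E 0)
    rw [Xp_e_zero hσ hf fr al (m - 1) (by omega)] at this
    rw [this]
    exact fr.ee _ _ (by omega) (by omega)
  have hs0 := stage0_even hσ hf h2 (e1 := E 0) (f2 := Fv 1)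
    (p := Xp σ E Fv al (m - 1) *ᵥ E (m - 1)) (w := σ ((1 + ε) * ε - (1 + ε)) • d)
    (b := κ - 1) (c := σ (1 + ε) * ((1 + ε) * ε - (1 + ε)))
    he00 (fr.ff 1 1 (by omega) (by omega))
    (by rw [fr.ef 0 1 (by omega) (by omega), if_neg (by omega)])
    (by rw [Xp_iso hσ hf fr al (m - 1) (by omega)]; exact fr.ee _ _ (by omega) (by omega))
    (by rw [herm_smul_left, hdp, mul_zero])
    (by
      rw [herm_smul_left, herm_smul_right hσ, fr.dd, hf.involutive, map_mul, hf.involutive,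
        map_sub, map_mul, hsa, hσε]
      field_simp
      ring)
    hpe0
    (Xp_e_f1 hσ hf fr (fun j _ => hal j) (m - 1) (by omega) (m - 1) (by omega) le_rfl)
    (by rw [herm_smul_left, fr.de 0 (by omega), mul_zero])
    (by rw [herm_smul_left, fr.df 1 (by omega), mul_zero])
  have hT0 : InH H (TV σ (E 0) ((κ - 1) * σ (κ - 1) *
      Cfsg.hermForm n F q (σ ((1 + ε) * ε - (1 + ε)) • d) (σ ((1 + ε) * ε - (1 + ε)) • d))) := by
    rw [← hs0]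
    exact hXin.pow 4
  have hww : Cfsg.hermForm n F q (σ ((1 + ε) * ε - (1 + ε)) • d)
      (σ ((1 + ε) * ε - (1 + ε)) • d) = (1 + ε⁻¹) * (1 + ε) * ((ε⁻¹ - 1) * (ε - 1)) := by
    rw [herm_smul_left, herm_smul_right hσ, fr.dd, hf.involutive, map_sub, map_mul, hsa, hσε]
    ring
  rw [hww] at hT0
  have hchar : ∀ x : F, -x = x := by
    intro x
    linear_combination (-x) * h2
  have hεm1 : ε - 1 ≠ 0 := by
    intro h
    apply hε1
    linear_combination h + h2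
  have hc0mem : (κ - 1) * σ (κ - 1) * ((1 + ε⁻¹) * (1 + ε) * ((ε⁻¹ - 1) * (ε - 1))) ∈
      SS hσ H he00 := by
    refine ⟨?_, hT0⟩
    have e1 : σ (σ (κ - 1)) = κ - 1 := hf.involutive _
    have e2 : σ (1 + ε⁻¹) = 1 + ε := by rw [map_add, map_one, hsc]
    have e3 : σ (ε⁻¹ - 1) = ε - 1 := by rw [map_sub, map_one, hsc]
    have e4 : σ (ε - 1) = ε⁻¹ - 1 := by rw [map_sub, map_one, hσε]
    rw [hchar]
    simp only [map_mul, e1, e2, e3, e4, hsa]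
    ring
  have hc0ne : (κ - 1) * σ (κ - 1) * ((1 + ε⁻¹) * (1 + ε) * ((ε⁻¹ - 1) * (ε - 1))) ≠ 0 := by
    have h1 : σ (κ - 1) ≠ 0 := by rwa [Ne, map_eq_zero]
    have h3 : 1 + ε⁻¹ ≠ 0 := by
      intro h
      apply hε1
      field_simp at h
      linear_combination h
    have h4 : ε⁻¹ - 1 ≠ 0 := by
      intro h
      apply hεm1
      field_simp at h
      linear_combination -h
    exact mul_ne_zero (mul_ne_zero hκ1 h1) (mul_ne_zero (mul_ne_zero h3 hε1) (mul_ne_zero h4 hεm1))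
  -- Stage 1
  have hmove : ∀ (M : Matrix (Fin n) (Fin n) F), InH H M → ∀ v : Fin n → F,
      (∀ c ∈ SS hσ H he00, InH H (TV σ v c)) → ∀ c ∈ SS hσ H he00, InH H (TV σ (M *ᵥ v) c) :=
    fun M hM v hv c hc => inh_conj_TV hσ hM (hv c hc)
  have hP0 : ∀ c ∈ SS hσ H he00, InH H (TV σ (E 0) c) := fun c hc => hc.2
  have hLe0 : uM σ m Fv E d al (1 + ε) ε⁻¹ *ᵥ E 0 = E 0 - E (0 + 1) := by
    rw [uM_f hσ hf (Frame.swap hf fr) hm1 al (1 + ε) ε⁻¹ 0 (by omega), hal 0, map_one, one_smul]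
  have hUe0 : uM σ m E Fv d al (1 + ε) ε⁻¹ *ᵥ E 0 = E 0 := uM_e_zero hσ hf fr hm1 al _ _
  have hUe1 : uM σ m E Fv d al (1 + ε) ε⁻¹ *ᵥ E (0 + 1) = E (0 + 1) + E 0 := by
    rw [uM_e_succ hσ hf fr hm1 al (1 + ε) ε⁻¹ 0 (by omega), hUe0, hal 0, one_smul]
  have hU'e0 : uM σ m E Fv d al' ((1 + ε) * ε) ε⁻¹ *ᵥ E 0 = E 0 := uM_e_zero hσ hf fr hm1 al' _ _
  have hU'e1 : uM σ m E Fv d al' ((1 + ε) * ε) ε⁻¹ *ᵥ E (0 + 1) = E (0 + 1) + κ • E 0 := by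
    rw [uM_e_succ hσ hf fr hm1 al' ((1 + ε) * ε) ε⁻¹ 0 (by omega), hU'e0, hal'0]
  have hP1 : ∀ c ∈ SS hσ H he00, InH H (TV σ (E (0 + 1)) c) := by
    intro c hc
    have := hmove _ hU _ (hmove _ hL _ hP0) c hc
    rw [hLe0, Matrix.mulVec_sub, hUe0, hUe1] at this
    have e : E 0 - (E (0 + 1) + E 0) = (-1 : F) • E (0 + 1) := by
      rw [neg_smul, one_smul]
      abel
    rw [e, TV_smul, map_neg, map_one] at this
    simpa using this
  have hP2 : ∀ c ∈ SS hσ H he00, InH H (TV σ (E (0 + 1) + E 0) c) := by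
    intro c hc
    have := hmove _ hU _ hP1 c hc
    rwa [hUe1] at this
  have hP3 : ∀ c ∈ SS hσ H he00, InH H (TV σ (E (0 + 1) + κ • E 0) c) := by
    intro c hc
    have := hmove _ hU' _ hP1 c hc
    rwa [hU'e1] at this
  have hP4 : ∀ c ∈ SS hσ H he00, InH H (TV σ (E (0 + 1) + (1 + κ) • E 0) c) := by
    intro c hc
    have := hmove _ hU _ hP3 c hc
    rw [Matrix.mulVec_add, Matrix.mulVec_smul, hUe1, hUe0] at this
    have e : E (0 + 1) + E 0 + κ • E 0 = E (0 + 1) + (1 + κ) • E 0 := by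
      rw [add_smul, one_smul]
      abel
    rwa [e] at this
  have hmul : ∀ c ∈ SS hσ H he00, c * ν ∈ SS hσ H he00 := by
    intro c hc
    have hnc : -c ∈ SS hσ H he00 := (SS hσ H he00).neg_mem hc
    have h4 := four_term hσ hf (a := E (0 + 1)) (b := E 0) he11 he00 he10 c κ
    rw [hκ] at h4
    refine ⟨?_, ?_⟩
    · rw [map_mul, hc.1, ← hκ, map_add, hf.involutive]
      ring
    · rw [← h4]
      have e : E (0 + 1) + E 0 = E (0 + 1) + (1 : F) • E 0 := by rw [one_smul]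
      exact (((hP1 c hc).mul (hP2 (-c) hnc)).mul (hP3 (-c) hnc)).mul (hP4 c hc)
  have hskew := skew_gen hσ he00 hgen hc0mem hc0ne hmul
  have hE0 : E 0 ∈ DD σ H := ⟨he00, fun c hc => (hskew c hc).2⟩
  -- walk
  have ha : (1 + ε) ≠ 0 := hε1
  refine walk hF hσ hf fr hm hn (al := al) (fun j _ => hal j) (by rw [hal 0]; exact one_ne_zero)
    ha (by linear_combination hc) hU hL hE0
    (step_e hσ hf fr hm1 hU hL (j := 0) (by omega) (hal 0) hE0) ?_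
    (fun h1 => step_f hσ hf fr hm1 hU hL (j := 0) (by omega) (hal 0) h1)
  intro hE
  have hys := ystar_mem hσ hf fr hm1 (by linear_combination hc) hL (hE (m - 1) (by omega))
  have hskε : σ (ε + ε⁻¹) = -(ε + ε⁻¹) := by
    rw [hchar, map_add, hsc, hσε, add_comm]
  have hmv := dd_move hσ hf hys (hE (m - 1) (by omega)) hskε
  have hB : Cfsg.hermForm n F q (E (m - 1) + σ (1 + ε) • d + σ ε⁻¹ • Fv (m - 1)) (E (m - 1)) =
      ε := by
    rw [herm_add_left, herm_add_left, herm_smul_left, herm_smul_left,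
      fr.ee _ _ (by omega) (by omega), fr.de _ (by omega), fr.fe _ _ (by omega) (by omega),
      if_pos rfl, hsc]
    ring
  rw [hB] at hmv
  have h3 := dd_inh hσ hf hmv hU'
  have hact : uM σ m E Fv d al' ((1 + ε) * ε) ε⁻¹ *ᵥ
      (E (m - 1) + σ (1 + ε) • d + σ ε⁻¹ • Fv (m - 1) + ((ε + ε⁻¹) * ε) • E (m - 1)) =
      ε • Fv (m - 1) := by
    rw [Matrix.mulVec_add, Matrix.mulVec_add, Matrix.mulVec_add, Matrix.mulVec_smul,
      Matrix.mulVec_smul, Matrix.mulVec_smul, uM_f_last hσ hf fr hm1 al' _ _,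
      uM_d hσ hf fr hm1 al' _ _, hsa, hsc, map_mul, hsa, hσε]
    have hd0 : (1 + ε⁻¹) - ε * ((1 + ε⁻¹) * ε⁻¹) = 0 := by
      field_simp
      ring
    have hP0' : 1 + (1 + ε⁻¹) * ((1 + ε) * ε) + ε * ε⁻¹ + (ε + ε⁻¹) * ε = 0 := by
      field_simp
      linear_combination (2 + ε + ε ^ 2) * h2
    linear_combination (norm := module) hd0 • d +
      hP0' • (uM σ m E Fv d al' ((1 + ε) * ε) ε⁻¹ *ᵥ E (m - 1))
  rw [hact] at h3
  have h4 := dd_smul hσ hf h3 ε⁻¹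
  rwa [smul_smul, inv_mul_cancel₀ hε0, one_smul] at h4

end core

theorem even_main (hF : Fintype.card F = q ^ 2) (hσ : ∀ x, σ x = x ^ q)
    (hf : Cfsg.Geo.IsUnitaryForm σ (Cfsg.hermForm n F q)) (h2 : (2 : F) = 0)
    {m : ℕ} (hm : 2 ≤ m) (hn : n = 2 * m + 1) :
    ∃ u g h : ↥(Cfsg.SU n F q),
      (IsNilpotent (((u : Matrix.SpecialLinearGroup (Fin n) F) : Matrix (Fin n) (Fin n) F) - 1) ∧
        (((u : Matrix.SpecialLinearGroup (Fin n) F) : Matrix (Fin n) (Fin n) F) - 1) ^ (n - 1) ≠ 0) ∧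
      Subgroup.closure ({u, g * u * g⁻¹, h * u * h⁻¹} : Set ↥(Cfsg.SU n F q)) = ⊤ := by
  obtain ⟨E, Fv, d, fr⟩ := exists_frame hF hσ hf m hn
  obtain ⟨ν, κ, ε, hν, hν0, hgen, hκ0, hκ, hε, hε0, hσε, hε1, hκ1⟩ := even_params hF hσ hf h2
  have hm1 : 1 ≤ m := by omega
  have hsa : σ (1 + ε) = 1 + ε⁻¹ := by rw [map_add, map_one, hσε]
  have hsc : σ ε⁻¹ = ε := by rw [map_inv₀, hσε, inv_inv]
  have hc : ε⁻¹ + σ ε⁻¹ + (1 + ε) * σ (1 + ε) = 0 := by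
    rw [hsa, hsc]
    field_simp
    linear_combination (1 + ε + ε ^ 2) * h2
  obtain ⟨t, ht0, htf0, htd, htE, htF⟩ := exists_torus hF hσ hf hm fr hκ0
  obtain ⟨h, J, hJJ, hJiso, hJE, hJF, hJd, hconj⟩ := exists_swap hF hσ hf hn fr
  refine ⟨mkSU (uM σ m E Fv d (fun _ => 1) (1 + ε) ε⁻¹) (uM_det hσ hf fr hm1 _ _ _)
    (uM_iso hσ hf fr hm1 _ hc), t, h,
    uM_regular hF hσ hf fr hm1 hn _ (fun _ _ => one_ne_zero) hε1 hc, ?_⟩
  apply top_of_dd hF hσ hf (by omega) (by omega)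
  apply even_core hF hσ hf h2 hm hn fr hgen hκ hε0 hσε hε1 hκ1 (al := fun _ => 1)
    (al' := fun j => if j = 0 then κ else 1) (fun _ => rfl) (if_pos rfl)
    (fun j hj => if_neg (by omega))
  · exact ⟨_, Subgroup.subset_closure (Set.mem_insert _ _), rfl⟩
  · refine ⟨_, Subgroup.subset_closure (Set.mem_insert_of_mem _ (Set.mem_insert _ _)), ?_⟩
    rw [su_coe_mul, su_coe_mul, coe_mkSU,
      conj_uM hσ (su_mul_inv t) (su_inv_mul t) (su_iso t), hε]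
    exact uM_torus hf hm ht0 htd htE htF (by rw [if_pos rfl, one_mul])
      (fun j hj => if_neg (by omega)) (1 + κ / σ κ) (κ / σ κ)⁻¹
  · refine ⟨_, Subgroup.subset_closure
      (Set.mem_insert_of_mem _ (Set.mem_insert_of_mem _ (Set.mem_singleton _))), ?_⟩
    rw [su_coe_mul, su_coe_mul, coe_mkSU, hconj]
    exact uM_swapJ hσ hm1 hJJ hJiso hJE hJF hJd _ _ _

end Cfsg.Agent.Lib.helper15.SUn
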