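import Cfsg.Agent.Lib.helper15.SUn.Ratio

set_option autoImplicit false

namespace Cfsg.Agent.Lib.helper15.SUn

open Matrix Cfsg.Agent.Lib.Helper28.UGen
  Cfsg.Agent.Lib.helper2.SUnP2 Cfsg.Agent.Lib.helper2.SUnP4 Cfsg.Agent.Lib.helper2.SUnP5
  Cfsg.Agent.Lib.Helper10.SUnP3 Cfsg.Agent.Lib.Helper10.SUnP10 Cfsg.Agent.Lib.Helper10.SUnP12
  Cfsg.Agent.Lib.Helper13.SUnP6 Cfsg.Agent.Lib.Helper13.SUnP8b Cfsg.Agent.Lib.Helper13.SUnP9
  Cfsg.Agent.Lib.Helper13.SUnP14 Cfsg.Agent.Lib.Helper13.SUnP15 Cfsg.Agent.Lib.Helper21.SUnP7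

variable {F : Type*} [Field F] [Fintype F] {n : ℕ} {q : ℕ} {σ : F ≃+* F}

theorem odd_params (hF : Fintype.card F = q ^ 2) (hσ : ∀ x, σ x = x ^ q)
    (hf : Cfsg.Geo.IsUnitaryForm σ (Cfsg.hermForm n F q)) (h2 : (2 : F) ≠ 0) :
    ∃ ν α a c1 : F, σ ν = ν ∧ ν ≠ 0 ∧ (∀ r : F, σ r = r → r ≠ 0 → ∃ j : ℕ, r = ν ^ j) ∧
      ν ≠ 1 ∧ α * σ α = ν ∧ α ≠ 0 ∧ a * σ a = -2 ∧ a ≠ 0 ∧ c1 ≠ 0 ∧ σ c1 = -c1 := by
  obtain ⟨ν, hν, hν0, hgen⟩ := exists_fix_gen hF hσ hf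
  obtain ⟨α, hα⟩ := Cfsg.Agent.Lib.Helper28.UForm.norm_surj hf ν hν
  obtain ⟨a, ha⟩ := Cfsg.Agent.Lib.Helper28.UForm.norm_surj hf (-2 : F)
    (by rw [map_neg, map_ofNat])
  obtain ⟨c1, hc1, hc1σ⟩ := Cfsg.Agent.Lib.Helper28.UForm.exists_K0 hf
  refine ⟨ν, α, a, c1, hν, hν0, hgen, ?_, hα, ?_, ha, ?_, hc1, hc1σ⟩
  · intro h1
    obtain ⟨j, hj⟩ := hgen (-1) (by rw [map_neg, map_one]) (neg_ne_zero.2 one_ne_zero)
    rw [h1, one_pow] at hj
    apply h2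
    linear_combination -hj
  · intro h
    rw [h, zero_mul] at hα
    exact hν0 hα.symm
  · intro h
    rw [h, zero_mul] at ha
    apply h2
    linear_combination ha

section core

variable {m : ℕ} {E Fv : ℕ → Fin n → F} {d : Fin n → F} {H : Subgroup ↥(Cfsg.SU n F q)}

theorem odd_core (hF : Fintype.card F = q ^ 2) (hσ : ∀ x, σ x = x ^ q)
    (hf : Cfsg.Geo.IsUnitaryForm σ (Cfsg.hermForm n F q)) (h2 : (2 : F) ≠ 0)
    (hm : 2 ≤ m) (hn : n = 2 * m + 1) (fr : Frame q m E Fv d)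
    {ν α a c0 : F} (hν : σ ν = ν) (hν0 : ν ≠ 0)
    (hgen : ∀ r : F, σ r = r → r ≠ 0 → ∃ j : ℕ, r = ν ^ j) (hν1 : ν ≠ 1)
    (hα : α * σ α = ν) (hα0 : α ≠ 0) (ha : a * σ a = -2) (ha0 : a ≠ 0)
    (hc00 : c0 ≠ 0) (hc0σ : σ c0 = -c0)
    {al : ℕ → F} (hal0 : al 0 = α) (hal : ∀ j, 1 ≤ j → al j = 1)
    (hU : InH H (uM σ m E Fv d al a 1))
    (hL : InH H (uM σ m Fv E d al a 1))
    (hT0 : InH H (TV σ (E 0) c0)) :
    ∀ y : Fin n → F, Cfsg.hermForm n F q y y = 0 → y ∈ DD σ H := by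
  have hm1 : 1 ≤ m := by omega
  have hc : (1 : F) + σ 1 + a * σ a = 0 := by
    rw [map_one, ha]
    ring
  have hsα0 : σ α ≠ 0 := by rwa [Ne, map_eq_zero]
  have he00 : Cfsg.hermForm n F q (E 0) (E 0) = 0 := fr.ee 0 0 (by omega) (by omega)
  have he11 : Cfsg.hermForm n F q (E (0 + 1)) (E (0 + 1)) = 0 := fr.ee 1 1 (by omega) (by omega)
  have he10 : Cfsg.hermForm n F q (E (0 + 1)) (E 0) = 0 := fr.ee 1 0 (by omega) (by omega)
  have he01 : Cfsg.hermForm n F q (E 0) (E (0 + 1)) = 0 := fr.ee 0 1 (by omega) (by omega)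
  have hLe0 : uM σ m Fv E d al a 1 *ᵥ E 0 = E 0 - σ α • E (0 + 1) := by
    rw [uM_f hσ hf (Frame.swap hf fr) hm1 al a 1 0 (by omega), hal0]
  have hUe0 : uM σ m E Fv d al a 1 *ᵥ E 0 = E 0 := uM_e_zero hσ hf fr hm1 al _ _
  have hUe1 : uM σ m E Fv d al a 1 *ᵥ E (0 + 1) = E (0 + 1) + α • E 0 := by
    rw [uM_e_succ hσ hf fr hm1 al a 1 0 (by omega), hUe0, hal0]
  have hy0 : uM σ m E Fv d al a 1 *ᵥ (uM σ m Fv E d al a 1 *ᵥ E 0) =
      (-σ α) • E (0 + 1) + (1 - ν) • E 0 := by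
    rw [hLe0, Matrix.mulVec_sub, Matrix.mulVec_smul, hUe0, hUe1]
    linear_combination (norm := module) hα.symm • E 0
  have hUy0 : uM σ m E Fv d al a 1 *ᵥ ((-σ α) • E (0 + 1) + (1 - ν) • E 0) =
      (-σ α) • E (0 + 1) + (1 - ν) • E 0 + (-ν) • E 0 := by
    rw [Matrix.mulVec_add, Matrix.mulVec_smul, Matrix.mulVec_smul, hUe0, hUe1]
    linear_combination (norm := module) hα.symm • E 0
  have hUUy0 : uM σ m E Fv d al a 1 *ᵥ ((-σ α) • E (0 + 1) + (1 - ν) • E 0 + (-ν) • E 0) =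
      (-σ α) • E (0 + 1) + (1 - ν) • E 0 + (2 * -ν) • E 0 := by
    rw [Matrix.mulVec_add, hUy0, Matrix.mulVec_smul, hUe0]
    module
  have hyy : Cfsg.hermForm n F q ((-σ α) • E (0 + 1) + (1 - ν) • E 0)
      ((-σ α) • E (0 + 1) + (1 - ν) • E 0) = 0 := by
    simp only [herm_add_left, herm_smul_left, herm_add_right hσ, herm_smul_right hσ, he00, he11,
      he10, he01]
    ring
  have hye : Cfsg.hermForm n F q ((-σ α) • E (0 + 1) + (1 - ν) • E 0) (E 0) = 0 := by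
    simp only [herm_add_left, herm_smul_left, he00, he10]
    ring
  -- Stage 1
  have hmove : ∀ (M : Matrix (Fin n) (Fin n) F), InH H M → ∀ v : Fin n → F,
      (∀ c ∈ SS hσ H he00, InH H (TV σ v c)) → ∀ c ∈ SS hσ H he00, InH H (TV σ (M *ᵥ v) c) :=
    fun M hM v hv c hc => inh_conj_TV hσ hM (hv c hc)
  have hP0 : ∀ c ∈ SS hσ H he00, InH H (TV σ (E 0) c) := fun c hc => hc.2
  have hP1 : ∀ c ∈ SS hσ H he00, InH H (TV σ ((-σ α) • E (0 + 1) + (1 - ν) • E 0) c) := by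
    intro c hc
    have := hmove _ hU _ (hmove _ hL _ hP0) c hc
    rwa [hy0] at this
  have hP2 : ∀ c ∈ SS hσ H he00,
      InH H (TV σ ((-σ α) • E (0 + 1) + (1 - ν) • E 0 + (-ν) • E 0) c) := by
    intro c hc
    have := hmove _ hU _ hP1 c hc
    rwa [hUy0] at this
  have hP3 : ∀ c ∈ SS hσ H he00,
      InH H (TV σ ((-σ α) • E (0 + 1) + (1 - ν) • E 0 + (2 * -ν) • E 0) c) := by
    intro c hc
    have := hmove _ hU _ hP2 c hc
    rwa [hUUy0] at this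
  have hmul : ∀ c ∈ SS hσ H he00, 2 * ν ^ 2 * c ∈ SS hσ H he00 := by
    intro c hc
    have h2c : -(2 * c) ∈ SS hσ H he00 := by
      apply (SS hσ H he00).neg_mem
      rw [two_mul]
      exact (SS hσ H he00).add_mem hc hc
    have hsd := second_diff hσ hf hyy he00 hye c (-ν)
    refine ⟨?_, ?_⟩
    · rw [map_mul, map_mul, map_pow, map_ofNat, hν, hc.1]
      ring
    · have e : 2 * (-ν * σ (-ν)) * c = 2 * ν ^ 2 * c := by
        rw [map_neg, hν]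
        ring
      rw [e] at hsd
      rw [← hsd]
      exact ((hP1 c hc).mul (hP2 _ h2c)).mul (hP3 c hc)
  have hskew := skew_closure_odd hF hσ hf h2 (SS hσ H he00) hν hν0 hgen ⟨hc0σ, hT0⟩ hc00 hc0σ
    hmul
  have hE0 : E 0 ∈ DD σ H := ⟨he00, fun c hc => (hskew c hc).2⟩
  -- E 1 by Baer
  have h1ν : 1 - ν ≠ 0 := by
    intro h
    apply hν1
    linear_combination -h
  have hb : (1 - ν) • E 0 ∈ DD σ H := dd_smul hσ hf hE0 _
  have hab1 : (-σ α) • E (0 + 1) + (1 - ν) • E 0 ∈ DD σ H := by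
    have := dd_inh hσ hf (dd_inh hσ hf hE0 hL) hU
    rwa [hy0] at this
  have habk : (-σ α) • E (0 + 1) + ((1 - 2 * ν) / (1 - ν)) • ((1 - ν) • E 0) ∈ DD σ H := by
    have := dd_inh hσ hf hab1 hU
    rw [hUy0] at this
    have e : (-σ α) • E (0 + 1) + ((1 - 2 * ν) / (1 - ν)) • ((1 - ν) • E 0) =
        (-σ α) • E (0 + 1) + (1 - ν) • E 0 + (-ν) • E 0 := by
      rw [smul_smul, div_mul_cancel₀ _ h1ν]
      module
    rwa [e]
  have hE1a : (-σ α) • E (0 + 1) ∈ DD σ H := by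
    refine baer hσ hf (a := (-σ α) • E (0 + 1)) (b := (1 - ν) • E 0) ?_ ?_ hb hab1 habk ?_ ?_
    · rw [herm_smul_left, herm_smul_right hσ, he11, mul_zero, mul_zero]
    · rw [herm_smul_left, herm_smul_right hσ, he10, mul_zero, mul_zero]
    · intro h
      rw [div_eq_one_iff_eq h1ν] at h
      apply hν0
      linear_combination -h
    · rw [map_div₀, map_sub, map_sub, map_mul, map_one, map_ofNat, hν]
  have hE1 : E (0 + 1) ∈ DD σ H := by
    have := dd_smul hσ hf hE1a (-σ α)⁻¹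
    rwa [smul_smul, inv_mul_cancel₀ (neg_ne_zero.2 hsα0), one_smul] at this
  -- walk
  refine walk hF hσ hf fr hm hn (al := al) hal (by rw [hal0]; exact hα0) ha0 hc hU hL hE0 hE1
    ?_ ?_
  · intro hE
    have hys := ystar_mem hσ hf fr hm1 hc hL (hE (m - 1) (by omega))
    have h3 := dd_inh hσ hf hys hU
    have hact : uM σ m E Fv d al a 1 *ᵥ (E (m - 1) + σ a • d + σ 1 • Fv (m - 1)) =
        Fv (m - 1) := by
      rw [Matrix.mulVec_add, Matrix.mulVec_add, Matrix.mulVec_smul, Matrix.mulVec_smul,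
        uM_f_last hσ hf fr hm1 al _ _, uM_d hσ hf fr hm1 al _ _, map_one]
      have hc' : 1 + σ a * a + 1 = (0 : F) := by linear_combination ha
      linear_combination (norm := module) hc' • (uM σ m E Fv d al a 1 *ᵥ E (m - 1))
    rwa [hact] at h3
  · intro hF1
    have hLf0 : uM σ m Fv E d al a 1 *ᵥ Fv 0 = Fv 0 :=
      uM_e_zero hσ hf (Frame.swap hf fr) hm1 al _ _
    have hLf1 : uM σ m Fv E d al a 1 *ᵥ Fv (0 + 1) = Fv (0 + 1) + α • Fv 0 := by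
      rw [uM_e_succ hσ hf (Frame.swap hf fr) hm1 al a 1 0 (by omega), hLf0, hal0]
    have hz1 : (-α) • Fv 0 + Fv (0 + 1) ∈ DD σ H := by
      apply dd_inh_inv hσ hf hL
      have : uM σ m Fv E d al a 1 *ᵥ ((-α) • Fv 0 + Fv (0 + 1)) = Fv (0 + 1) := by
        rw [Matrix.mulVec_add, Matrix.mulVec_smul, hLf0, hLf1]
        module
      rw [this]
      exact hF1
    have hz2 : (2 * -α) • Fv 0 + Fv (0 + 1) ∈ DD σ H := by
      apply dd_inh_inv hσ hf hL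
      have : uM σ m Fv E d al a 1 *ᵥ ((2 * -α) • Fv 0 + Fv (0 + 1)) =
          (-α) • Fv 0 + Fv (0 + 1) := by
        rw [Matrix.mulVec_add, Matrix.mulVec_smul, hLf0, hLf1]
        module
      rw [this]
      exact hz1
    have hz3 : (-α) • Fv 0 + (2⁻¹ : F) • Fv (0 + 1) ∈ DD σ H := by
      have := dd_smul hσ hf hz2 (2⁻¹ : F)
      have e : (2⁻¹ : F) • ((2 * -α) • Fv 0 + Fv (0 + 1)) =
          (-α) • Fv 0 + (2⁻¹ : F) • Fv (0 + 1) := by
        rw [smul_add, smul_smul, ← mul_assoc, inv_mul_cancel₀ h2, one_mul]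
      rwa [e] at this
    have hF0a : (-α) • Fv 0 ∈ DD σ H := by
      refine baer hσ hf (a := (-α) • Fv 0) (b := Fv (0 + 1)) ?_ ?_ hF1 hz1 hz3 ?_ ?_
      · rw [herm_smul_left, herm_smul_right hσ, fr.ff 0 0 (by omega) (by omega), mul_zero,
          mul_zero]
      · rw [herm_smul_left, fr.ff 0 (0 + 1) (by omega) (by omega), mul_zero]
      · intro h
        apply h2
        have : (2 : F) * 2⁻¹ = 1 := mul_inv_cancel₀ h2
        rw [h] at this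
        linear_combination 2 * this
      · rw [map_inv₀, map_ofNat]
    have := dd_smul hσ hf hF0a (-α)⁻¹
    rwa [smul_smul, inv_mul_cancel₀ (neg_ne_zero.2 hα0), one_smul] at this

theorem sg_conj_uM (hσ : ∀ x, σ x = x ^ q) (hf : Cfsg.Geo.IsUnitaryForm σ (Cfsg.hermForm n F q))
    (fr : Frame q m E Fv d) (hm : 2 ≤ m) (al : ℕ → F) {a c : F} (hc : c + σ c + a * σ a = 0)
    (s : F) {Gi : Matrix (Fin n) (Fin n) F} (hGi : Sg σ (E 0) (E 1) s * Gi = 1) :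
    Sg σ (E 0) (E 1) s * uM σ m E Fv d al a c * Gi =
      TV σ (E 0) (σ s * al 0 - s * σ (al 0)) * uM σ m E Fv d al a c := by
  have hm1 : 1 ≤ m := by omega
  have he00 : Cfsg.hermForm n F q (E 0) (E 0) = 0 := fr.ee 0 0 (by omega) (by omega)
  have he11 : Cfsg.hermForm n F q (E 1) (E 1) = 0 := fr.ee 1 1 (by omega) (by omega)
  have he10 : Cfsg.hermForm n F q (E 1) (E 0) = 0 := fr.ee 1 0 (by omega) (by omega)
  have he01 : Cfsg.hermForm n F q (E 0) (E 1) = 0 := fr.ee 0 1 (by omega) (by omega)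
  have hinv : Sg σ (E 0) (E 1) s * Sg σ (E 0) (E 1) (-s) = 1 := by
    rw [Sg_mul hσ hf he00 he11 he01, add_neg_cancel, Sg_zero]
  have hGi' : Gi = Sg σ (E 0) (E 1) (-s) := by
    have h1 : Gi * Sg σ (E 0) (E 1) s = 1 := mul_eq_one_comm.1 hGi
    calc Gi = Gi * (Sg σ (E 0) (E 1) s * Sg σ (E 0) (E 1) (-s)) := by rw [hinv, Matrix.mul_one]
      _ = Sg σ (E 0) (E 1) (-s) := by rw [← Matrix.mul_assoc, h1, Matrix.one_mul]
  obtain ⟨Ui, hUi, hiU⟩ := exists_inv_of_det (uM_det hσ hf fr hm1 al a c)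
  have hconj := conj_Sg hσ hUi (uM_iso hσ hf fr hm1 al hc) (E 0) (E 1) (-s)
  have hUe0 : uM σ m E Fv d al a c *ᵥ E 0 = E 0 := uM_e_zero hσ hf fr hm1 al _ _
  have hUe1 : uM σ m E Fv d al a c *ᵥ E 1 = E 1 + al 0 • E 0 := by
    have := uM_e_succ hσ hf fr hm1 al a c 0 (by omega)
    rw [zero_add, hUe0] at this
    exact this
  rw [hUe0, hUe1] at hconj
  have hkey : Sg σ (E 0) (E 1) s * Sg σ (E 0) (E 1 + al 0 • E 0) (-s) =
      TV σ (E 0) (σ s * al 0 - s * σ (al 0)) := by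
    apply mat_ext
    intro x
    rw [← Matrix.mulVec_mulVec, Sg_mulVec hσ, Sg_mulVec hσ, TV_mulVec hσ]
    simp only [herm_add_left, herm_sub_left, herm_smul_left, herm_add_right hσ,
      herm_smul_right hσ, he00, he11, he01, he10, map_neg]
    module
  rw [← hkey, ← hconj, hGi']
  simp only [Matrix.mul_assoc]
  rw [hiU, Matrix.mul_one]

end core

theorem odd_main (hF : Fintype.card F = q ^ 2) (hσ : ∀ x, σ x = x ^ q)
    (hf : Cfsg.Geo.IsUnitaryForm σ (Cfsg.hermForm n F q)) (h2 : (2 : F) ≠ 0)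
    {m : ℕ} (hm : 2 ≤ m) (hn : n = 2 * m + 1) :
    ∃ u g h : ↥(Cfsg.SU n F q),
      (IsNilpotent (((u : Matrix.SpecialLinearGroup (Fin n) F) : Matrix (Fin n) (Fin n) F) - 1) ∧
        (((u : Matrix.SpecialLinearGroup (Fin n) F) : Matrix (Fin n) (Fin n) F) - 1) ^ (n - 1) ≠ 0) ∧
      Subgroup.closure ({u, g * u * g⁻¹, h * u * h⁻¹} : Set ↥(Cfsg.SU n F q)) = ⊤ := by
  obtain ⟨E, Fv, d, fr⟩ := exists_frame hF hσ hf m hn
  obtain ⟨ν, α, a, c1, hν, hν0, hgen, hν1, hα, hα0, ha, ha0, hc1, hc1σ⟩ :=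
    odd_params hF hσ hf h2
  have hm1 : 1 ≤ m := by omega
  have hc : (1 : F) + σ 1 + a * σ a = 0 := by
    rw [map_one, ha]
    ring
  have hsα0 : σ α ≠ 0 := by rwa [Ne, map_eq_zero]
  obtain ⟨h, J, hJJ, hJiso, hJE, hJF, hJd, hconj⟩ := exists_swap hF hσ hf hn fr
  have he00 : Cfsg.hermForm n F q (E 0) (E 0) = 0 := fr.ee 0 0 (by omega) (by omega)
  have he11 : Cfsg.hermForm n F q (E 1) (E 1) = 0 := fr.ee 1 1 (by omega) (by omega)
  have he01 : Cfsg.hermForm n F q (E 0) (E 1) = 0 := fr.ee 0 1 (by omega) (by omega)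
  have hs : σ (c1 / (2 * σ α)) = -c1 / (2 * α) := by
    rw [map_div₀, map_mul, hf.involutive, map_ofNat, hc1σ]
  have hc0 : σ (c1 / (2 * σ α)) * α - c1 / (2 * σ α) * σ α = -c1 := by
    rw [hs]
    field_simp
    ring
  refine ⟨mkSU (uM σ m E Fv d (fun j => if j = 0 then α else 1) a 1) (uM_det hσ hf fr hm1 _ _ _)
    (uM_iso hσ hf fr hm1 _ hc),
    mkSU (Sg σ (E 0) (E 1) (c1 / (2 * σ α))) (Sg_det hσ hf he00 he11 he01 _)
      (Sg_iso hσ hf he00 he11 he01 _), h,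
    uM_regular hF hσ hf fr hm1 hn _ ?_ ha0 hc, ?_⟩
  · intro j _
    show (if j = 0 then α else 1) ≠ 0
    split_ifs
    · exact hα0
    · exact one_ne_zero
  apply top_of_dd hF hσ hf (by omega) (by omega)
  have hUin : InH (Subgroup.closure ({mkSU (uM σ m E Fv d (fun j => if j = 0 then α else 1) a 1)
      (uM_det hσ hf fr hm1 _ _ _) (uM_iso hσ hf fr hm1 _ hc),
      mkSU (Sg σ (E 0) (E 1) (c1 / (2 * σ α))) (Sg_det hσ hf he00 he11 he01 _)
        (Sg_iso hσ hf he00 he11 he01 _) *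
      mkSU (uM σ m E Fv d (fun j => if j = 0 then α else 1) a 1)
        (uM_det hσ hf fr hm1 _ _ _) (uM_iso hσ hf fr hm1 _ hc) *
      (mkSU (Sg σ (E 0) (E 1) (c1 / (2 * σ α))) (Sg_det hσ hf he00 he11 he01 _)
        (Sg_iso hσ hf he00 he11 he01 _))⁻¹,
      h * mkSU (uM σ m E Fv d (fun j => if j = 0 then α else 1) a 1)
        (uM_det hσ hf fr hm1 _ _ _) (uM_iso hσ hf fr hm1 _ hc) * h⁻¹} : Set ↥(Cfsg.SU n F q)))
      (uM σ m E Fv d (fun j => if j = 0 then α else 1) a 1) :=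
    ⟨_, Subgroup.subset_closure (Set.mem_insert _ _), rfl⟩
  apply odd_core hF hσ hf h2 hm hn fr hν hν0 hgen hν1 hα hα0 ha ha0
    (c0 := σ (c1 / (2 * σ α)) * α - c1 / (2 * σ α) * σ α)
    (by rw [hc0]; exact neg_ne_zero.2 hc1) (by rw [hc0, map_neg, hc1σ])
    (al := fun j => if j = 0 then α else 1) (if_pos rfl) (fun j hj => if_neg (by omega)) hUin
  · refine ⟨_, Subgroup.subset_closure
      (Set.mem_insert_of_mem _ (Set.mem_insert_of_mem _ (Set.mem_singleton _))), ?_⟩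
    rw [su_coe_mul, su_coe_mul, coe_mkSU, hconj]
    exact uM_swapJ hσ hm1 hJJ hJiso hJE hJF hJd _ _ _
  · apply inh_cancel_right _ hUin
    have hsg := sg_conj_uM hσ hf fr hm (fun j => if j = 0 then α else 1) hc (c1 / (2 * σ α))
      (Gi := (((mkSU (Sg σ (E 0) (E 1) (c1 / (2 * σ α))) (Sg_det hσ hf he00 he11 he01 _)
        (Sg_iso hσ hf he00 he11 he01 _))⁻¹ : ↥(Cfsg.SU n F q)) :
          Matrix.SpecialLinearGroup (Fin n) F))
      (su_mul_inv (mkSU (Sg σ (E 0) (E 1) (c1 / (2 * σ α))) (Sg_det hσ hf he00 he11 he01 _)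
        (Sg_iso hσ hf he00 he11 he01 _)))
    rw [if_pos rfl] at hsg
    rw [← hsg]
    exact ⟨_, Subgroup.subset_closure (Set.mem_insert_of_mem _ (Set.mem_insert _ _)), rfl⟩

end Cfsg.Agent.Lib.helper15.SUn
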