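import Cfsg.Agent.Lib.helper15.SUn.Walk

set_option autoImplicit false

namespace Cfsg.Agent.Lib.helper15.SUn

open Matrix Cfsg.Agent.Lib.Helper28.UGen
  Cfsg.Agent.Lib.helper2.SUnP2 Cfsg.Agent.Lib.helper2.SUnP4 Cfsg.Agent.Lib.helper2.SUnP5
  Cfsg.Agent.Lib.Helper10.SUnP3 Cfsg.Agent.Lib.Helper10.SUnP10 Cfsg.Agent.Lib.Helper10.SUnP12
  Cfsg.Agent.Lib.Helper13.SUnP6 Cfsg.Agent.Lib.Helper13.SUnP8b Cfsg.Agent.Lib.Helper13.SUnP9
  Cfsg.Agent.Lib.Helper13.SUnP14 Cfsg.Agent.Lib.Helper13.SUnP15 Cfsg.Agent.Lib.Helper21.SUnP7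

variable {F : Type*} [Field F] [Fintype F] {n : ℕ} {q : ℕ} {σ : F ≃+* F}

theorem Xp_congr_sg {E E' Fv Fv' : ℕ → Fin n → F} {al al' : ℕ → F} (k : ℕ)
    (h : ∀ j, j < k → Sg σ (E' j) (Fv' (j + 1)) (al' j) = Sg σ (E j) (Fv (j + 1)) (al j)) :
    Xp σ E' Fv' al' k = Xp σ E Fv al k := by
  induction k with
  | zero => rfl
  | succ k ih => rw [Xp_succ, Xp_succ, ih (fun j hj => h j (by omega)), h k (by omega)]

theorem uM_torus (hf : Cfsg.Geo.IsUnitaryForm σ (Cfsg.hermForm n F q)) {m : ℕ} (hm : 2 ≤ m)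
    {E Fv E' Fv' : ℕ → Fin n → F} {d d' : Fin n → F} {κ : F}
    (hE0 : E' 0 = κ • E 0) (hd : d' = (σ κ / κ) • d)
    (hEi : ∀ i, 1 ≤ i → i < m → E' i = E i) (hFi : ∀ i, 1 ≤ i → i < m → Fv' i = Fv i)
    {al al' : ℕ → F} (hal0 : al' 0 = al 0 * κ) (halj : ∀ j, 1 ≤ j → al' j = al j) (a c : F) :
    uM σ m E' Fv' d' al a c = uM σ m E Fv d al' (a * (κ / σ κ)) c := by
  unfold uM
  have h1 : Xp σ E' Fv' al (m - 1) = Xp σ E Fv al' (m - 1) := by
    apply Xp_congr_sg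
    intro j hj
    rcases Nat.eq_zero_or_pos j with rfl | hpos
    · rw [hE0, hFi (0 + 1) (by omega) (by omega), Sg_smul_left, hal0]
    · rw [hEi j hpos (by omega), hFi (j + 1) (by omega) (by omega), halj j hpos]
  rw [h1, hEi (m - 1) (by omega) (by omega), hd, smul_smul]
  have h2 : σ a * (σ κ / κ) = σ (a * (κ / σ κ)) := by
    rw [map_mul, map_div₀, hf.involutive]
  rw [h2]

theorem uM_swapJ (hσ : ∀ x, σ x = x ^ q) {m : ℕ} (hm : 1 ≤ m)
    {E Fv : ℕ → Fin n → F} {d : Fin n → F} {J : Matrix (Fin n) (Fin n) F} (hJJ : J * J = 1)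
    (hJiso : ∀ x y, Cfsg.hermForm n F q (J *ᵥ x) (J *ᵥ y) = Cfsg.hermForm n F q x y)
    (hJE : ∀ i, i < m → J *ᵥ E i = Fv i) (hJF : ∀ i, i < m → J *ᵥ Fv i = E i)
    (hJd : J *ᵥ d = d) (al : ℕ → F) (a c : F) :
    J * uM σ m E Fv d al a c * J = uM σ m Fv E d al a c := by
  rw [conj_uM hσ hJJ hJJ hJiso, hJd]
  exact uM_congr m d al a c hm hJE hJF

section ratio

variable {m : ℕ} {E Fv : ℕ → Fin n → F} {d : Fin n → F}

theorem Xp_shift (hσ : ∀ x, σ x = x ^ q) (hf : Cfsg.Geo.IsUnitaryForm σ (Cfsg.hermForm n F q))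
    (fr : Frame q m E Fv d) (hm : 2 ≤ m) {al al' : ℕ → F} (hal : ∀ j, 1 ≤ j → al' j = al j)
    (k : ℕ) (hk : 1 ≤ k) :
    Xp σ E Fv al' k = Sg σ (E 0) (Fv 1) (al' 0 - al 0) * Xp σ E Fv al k := by
  induction k, hk using Nat.le_induction with
  | base =>
    rw [Xp_succ, Xp_succ, Xp_zero, Xp_zero, Matrix.one_mul, Matrix.one_mul,
      Sg_mul hσ hf (fr.ee 0 0 (by omega) (by omega)) (fr.ff 1 1 (by omega) (by omega))
        (by rw [fr.ef 0 1 (by omega) (by omega), if_neg (by omega)]), sub_add_cancel]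
  | succ k hk ih =>
    rw [Xp_succ, Xp_succ, ih, hal k hk, Matrix.mul_assoc]

theorem exists_inv_of_det {M : Matrix (Fin n) (Fin n) F} (h : M.det = 1) :
    ∃ Mi : Matrix (Fin n) (Fin n) F, M * Mi = 1 ∧ Mi * M = 1 := by
  have hu : IsUnit M.det := by rw [h]; exact isUnit_one
  exact ⟨M⁻¹, Matrix.mul_nonsing_inv M hu, Matrix.nonsing_inv_mul M hu⟩

theorem uM_ratio (hσ : ∀ x, σ x = x ^ q) (hf : Cfsg.Geo.IsUnitaryForm σ (Cfsg.hermForm n F q))
    (fr : Frame q m E Fv d) (hm : 2 ≤ m) {al al' : ℕ → F} (hal : ∀ j, 1 ≤ j → al' j = al j)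
    (a a' c : F) :
    Sg σ (E 0) (Fv 1) (al' 0 - al 0) *
      Eh σ (Xp σ E Fv al (m - 1) *ᵥ E (m - 1)) (σ (a' - a) • d) (σ a * (a' - a)) *
        uM σ m E Fv d al a c = uM σ m E Fv d al' a' c := by
  have hX := Xp_shift hσ hf fr hm hal (m - 1) (by omega)
  obtain ⟨Xi, hXi, hiX⟩ := exists_inv_of_det (Xp_det hσ hf fr al (m - 1) (by omega))
  have hconj := conj_Eh hσ hXi (Xp_iso hσ hf fr al (m - 1) (by omega)) (E (m - 1))
    (σ (a' - a) • d) (σ a * (a' - a))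
  rw [Matrix.mulVec_smul, Xp_d hσ hf fr al (m - 1) (by omega)] at hconj
  have hee : Cfsg.hermForm n F q (E (m - 1)) (E (m - 1)) = 0 := fr.ee _ _ (by omega) (by omega)
  have hde : Cfsg.hermForm n F q d (E (m - 1)) = 0 := fr.de _ (by omega)
  have hmul := Eh_mul hσ hf (p := E (m - 1)) (w := σ (a' - a) • d) (w' := σ a • d) hee
    (by rw [herm_smul_left, hde, mul_zero]) (by rw [herm_smul_left, hde, mul_zero])
    (σ a * (a' - a)) c
  have hw : σ (a' - a) • d + σ a • d = σ a' • d := by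
    rw [← add_smul, map_sub, sub_add_cancel]
  have hc' : σ a * (a' - a) + c - Cfsg.hermForm n F q (σ a • d) (σ (a' - a) • d) = c := by
    rw [herm_smul_left, herm_smul_right hσ, fr.dd, hf.involutive]
    ring
  rw [hw, hc'] at hmul
  unfold uM
  rw [hX, ← hmul, ← hconj]
  simp only [Matrix.mul_assoc]
  rw [← Matrix.mul_assoc Xi, hiX, Matrix.one_mul]

theorem Xp_e_f1 (hσ : ∀ x, σ x = x ^ q) (hf : Cfsg.Geo.IsUnitaryForm σ (Cfsg.hermForm n F q))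
    (fr : Frame q m E Fv d) {al : ℕ → F} (hal : ∀ j, 1 ≤ j → al j = 1) (k : ℕ) (hk : k + 1 ≤ m)
    (j : ℕ) (hj1 : 1 ≤ j) (hjk : j ≤ k) :
    Cfsg.hermForm n F q (Xp σ E Fv al k *ᵥ E j) (Fv 1) = 1 := by
  induction j, hj1 using Nat.le_induction with
  | base =>
    rw [Xp_e_succ hσ hf fr al k hk 0 (by omega), Xp_e_zero hσ hf fr al k hk, herm_add_left,
      herm_smul_left, fr.ef 0 1 (by omega) (by omega), if_neg (by omega),
      fr.ef (0 + 1) 1 (by omega) (by omega), if_pos (by omega), mul_zero, add_zero]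
  | succ j hj ih =>
    rw [Xp_e_succ hσ hf fr al k hk j (by omega), herm_add_left, herm_smul_left, ih (by omega),
      hal j hj, fr.ef (j + 1) 1 (by omega) (by omega), if_neg (by omega), mul_one, zero_add]

end ratio

end Cfsg.Agent.Lib.helper15.SUn
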