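import Cfsg.Agent.Lib.helper15.SUn.UAct
import Cfsg.Agent.Lib.helper2.SUnP2
import Cfsg.Agent.Lib.helper2.SUnP4
import Cfsg.Agent.Lib.helper2.SUnP5
import Cfsg.Agent.Lib.Helper10.SUnP3
import Cfsg.Agent.Lib.Helper10.SUnP10
import Cfsg.Agent.Lib.Helper10.SUnP12
import Cfsg.Agent.Lib.Helper13.SUnP6
import Cfsg.Agent.Lib.Helper13.SUnP8b
import Cfsg.Agent.Lib.Helper13.SUnP9
import Cfsg.Agent.Lib.Helper13.SUnP14
import Cfsg.Agent.Lib.Helper13.SUnP15
import Cfsg.Agent.Lib.Helper21.SUnP7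

set_option autoImplicit false

namespace Cfsg.Agent.Lib.helper15.SUn

open Matrix Cfsg.Agent.Lib.Helper28.UGen
  Cfsg.Agent.Lib.helper2.SUnP2 Cfsg.Agent.Lib.helper2.SUnP4 Cfsg.Agent.Lib.helper2.SUnP5
  Cfsg.Agent.Lib.Helper10.SUnP3 Cfsg.Agent.Lib.Helper10.SUnP10 Cfsg.Agent.Lib.Helper10.SUnP12
  Cfsg.Agent.Lib.Helper13.SUnP6 Cfsg.Agent.Lib.Helper13.SUnP8b Cfsg.Agent.Lib.Helper13.SUnP9
  Cfsg.Agent.Lib.Helper13.SUnP14 Cfsg.Agent.Lib.Helper13.SUnP15 Cfsg.Agent.Lib.Helper21.SUnP7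

variable {F : Type*} [Field F] [Fintype F] {n : ℕ} {q : ℕ} {σ : F ≃+* F}

def SS (hσ : ∀ x, σ x = x ^ q) (H : Subgroup ↥(Cfsg.SU n F q)) {y : Fin n → F}
    (hy : Cfsg.hermForm n F q y y = 0) : AddSubgroup F where
  carrier := {c | σ c = -c ∧ InH H (TV σ y c)}
  zero_mem' := ⟨by rw [map_zero, neg_zero], by rw [TV_zero]; exact InH.one⟩
  add_mem' := by
    rintro a b ⟨ha1, ha2⟩ ⟨hb1, hb2⟩
    refine ⟨by rw [map_add, ha1, hb1, neg_add], ?_⟩
    rw [← TV_mul hσ hy]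
    exact ha2.mul hb2
  neg_mem' := by
    rintro a ⟨ha1, ha2⟩
    refine ⟨by rw [map_neg, ha1], ?_⟩
    apply ha2.of_mul_eq_one
    rw [TV_mul hσ hy, add_neg_cancel, TV_zero]

theorem mem_SS (hσ : ∀ x, σ x = x ^ q) (H : Subgroup ↥(Cfsg.SU n F q)) {y : Fin n → F}
    (hy : Cfsg.hermForm n F q y y = 0) (c : F) :
    c ∈ SS hσ H hy ↔ σ c = -c ∧ InH H (TV σ y c) := Iff.rfl

theorem inh_cancel_right {H : Subgroup ↥(Cfsg.SU n F q)} {X U : Matrix (Fin n) (Fin n) F}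
    (hXU : InH H (X * U)) (hU : InH H U) : InH H X := by
  obtain ⟨A, hA, hA'⟩ := hXU
  obtain ⟨B, hB, hB'⟩ := hU
  refine ⟨A * B⁻¹, H.mul_mem hA (H.inv_mem hB), ?_⟩
  rw [su_coe_mul, hA', Matrix.mul_assoc]
  have := su_mul_inv B
  rw [hB'] at this
  rw [this, Matrix.mul_one]

section walk

variable {m : ℕ} {E Fv : ℕ → Fin n → F} {d : Fin n → F} {H : Subgroup ↥(Cfsg.SU n F q)}

theorem step_e (hσ : ∀ x, σ x = x ^ q) (hf : Cfsg.Geo.IsUnitaryForm σ (Cfsg.hermForm n F q))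
    (fr : Frame q m E Fv d) (hm : 1 ≤ m) {al : ℕ → F} {a c : F}
    (hU : InH H (uM σ m E Fv d al a c)) (hL : InH H (uM σ m Fv E d al a c))
    {j : ℕ} (hj : j + 1 < m) (hal : al j = 1) (he : E j ∈ DD σ H) : E (j + 1) ∈ DD σ H := by
  have h1 : uM σ m Fv E d al a c *ᵥ E j = E j - σ (al j) • E (j + 1) :=
    uM_f hσ hf (Frame.swap hf fr) hm al a c j hj
  have h2 : uM σ m E Fv d al a c *ᵥ (uM σ m Fv E d al a c *ᵥ E j) = -E (j + 1) := by
    rw [h1, hal, map_one, one_smul, Matrix.mulVec_sub, uM_e_succ hσ hf fr hm al a c j hj, hal,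
      one_smul]
    abel
  have h3 := dd_inh hσ hf (dd_inh hσ hf he hL) hU
  rw [h2] at h3
  have h4 := dd_smul hσ hf h3 (-1)
  rwa [neg_smul, one_smul, neg_neg] at h4

theorem step_f (hσ : ∀ x, σ x = x ^ q) (hf : Cfsg.Geo.IsUnitaryForm σ (Cfsg.hermForm n F q))
    (fr : Frame q m E Fv d) (hm : 1 ≤ m) {al : ℕ → F} {a c : F}
    (hU : InH H (uM σ m E Fv d al a c)) (hL : InH H (uM σ m Fv E d al a c))
    {j : ℕ} (hj : j + 1 < m) (hal : al j = 1) (hfj : Fv (j + 1) ∈ DD σ H) : Fv j ∈ DD σ H := by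
  have h1 : uM σ m Fv E d al a c *ᵥ (Fv (j + 1) - Fv j) = Fv (j + 1) := by
    rw [Matrix.mulVec_sub, uM_e_succ hσ hf (Frame.swap hf fr) hm al a c j hj, hal, one_smul]
    abel
  have hz : Fv (j + 1) - Fv j ∈ DD σ H := dd_inh_inv hσ hf hL (by rw [h1]; exact hfj)
  have h2 : uM σ m E Fv d al a c *ᵥ Fv j = -(Fv (j + 1) - Fv j) := by
    rw [uM_f hσ hf fr hm al a c j hj, hal, map_one, one_smul]
    abel
  apply dd_inh_inv hσ hf hU
  rw [h2]
  have := dd_smul hσ hf hz (-1)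
  rwa [neg_smul, one_smul] at this

theorem ystar_mem (hσ : ∀ x, σ x = x ^ q) (hf : Cfsg.Geo.IsUnitaryForm σ (Cfsg.hermForm n F q))
    (fr : Frame q m E Fv d) (hm : 1 ≤ m) {al : ℕ → F} {a c : F}
    (hc : c + σ c + a * σ a = 0)
    (hL : InH H (uM σ m Fv E d al a c)) (he : E (m - 1) ∈ DD σ H) :
    E (m - 1) + σ a • d + σ c • Fv (m - 1) ∈ DD σ H := by
  apply dd_inh_inv hσ hf hL
  have h1 := uM_f_last hσ hf (Frame.swap hf fr) hm al a c
  have h2 := uM_d hσ hf (Frame.swap hf fr) hm al a c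
  have : uM σ m Fv E d al a c *ᵥ (E (m - 1) + σ a • d + σ c • Fv (m - 1)) = E (m - 1) := by
    rw [Matrix.mulVec_add, Matrix.mulVec_add, Matrix.mulVec_smul, Matrix.mulVec_smul, h1, h2]
    linear_combination (norm := module) hc • (uM σ m Fv E d al a c *ᵥ Fv (m - 1))
  rw [this]
  exact he

theorem walk (hF : Fintype.card F = q ^ 2) (hσ : ∀ x, σ x = x ^ q)
    (hf : Cfsg.Geo.IsUnitaryForm σ (Cfsg.hermForm n F q))
    (fr : Frame q m E Fv d) (hm : 2 ≤ m) (hn : n = 2 * m + 1) {al : ℕ → F} {a c : F}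
    (hal : ∀ j, 1 ≤ j → al j = 1) (hal0 : al 0 ≠ 0) (ha : a ≠ 0) (hc : c + σ c + a * σ a = 0)
    (hU : InH H (uM σ m E Fv d al a c)) (hL : InH H (uM σ m Fv E d al a c))
    (he0 : E 0 ∈ DD σ H) (he1 : E 1 ∈ DD σ H)
    (hfl : (∀ i, i < m → E i ∈ DD σ H) → Fv (m - 1) ∈ DD σ H)
    (hf0 : Fv 1 ∈ DD σ H → Fv 0 ∈ DD σ H) :
    ∀ y : Fin n → F, Cfsg.hermForm n F q y y = 0 → y ∈ DD σ H := by
  have hm1 : 1 ≤ m := by omega
  have hE : ∀ i, i < m → E i ∈ DD σ H := by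
    intro i
    induction i with
    | zero => intro _; exact he0
    | succ i ih =>
      intro hi
      rcases Nat.eq_zero_or_pos i with rfl | hpos
      · exact he1
      · exact step_e hσ hf fr hm1 hU hL hi (hal i hpos) (ih (by omega))
  have hFv : ∀ k, k < m → Fv (m - 1 - k) ∈ DD σ H := by
    intro k
    induction k with
    | zero => intro _; exact hfl hE
    | succ k ih =>
      intro hk
      have hprev := ih (by omega)
      have e : m - 1 - k = (m - 1 - (k + 1)) + 1 := by omega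
      rw [e] at hprev
      rcases Nat.eq_zero_or_pos (m - 1 - (k + 1)) with h0 | hpos
      · rw [h0] at hprev ⊢
        exact hf0 hprev
      · exact step_f hσ hf fr hm1 hU hL (by omega) (hal _ hpos) hprev
  have hFv' : ∀ i, i < m → Fv i ∈ DD σ H := by
    intro i hi
    have := hFv (m - 1 - i) (by omega)
    rwa [show m - 1 - (m - 1 - i) = i by omega] at this
  have hys := ystar_mem hσ hf fr hm1 hc hL (hE (m - 1) (by omega))
  have hsa : σ a ≠ 0 := by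
    intro h
    exact ha ((map_eq_zero σ).1 h)
  apply chain hF hσ hf hm1 hn fr hE hFv' hsa hys (kk := fun i => -σ (al i))
  · intro i hi
    intro h
    rw [neg_eq_zero, map_eq_zero] at h
    rcases Nat.eq_zero_or_pos i with rfl | hpos
    · exact hal0 h
    · rw [hal i hpos] at h
      exact one_ne_zero h
  · intro i hi
    have h1 : uM σ m Fv E d al a c *ᵥ E i = E i - σ (al i) • E (i + 1) :=
      uM_f hσ hf (Frame.swap hf fr) hm1 al a c i hi
    have := dd_inh hσ hf (hE i (by omega)) hL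
    rw [h1] at this
    rwa [neg_smul, ← sub_eq_add_neg]

end walk

end Cfsg.Agent.Lib.helper15.SUn
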